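import Groth.Agent.L22.Cyc.CurveLocal
import Groth.Agent.L22.Cyc.CurveDeg
import Mathlib.Algebra.Module.Submodule.Union
import Mathlib.RingTheory.Artinian.Ring

/-!
Functions on a family of one-dimensional branches with prescribed behaviour, coming from a subring.
-/

set_option autoImplicit false
set_option linter.style.haveILetI false

universe u

open IsLocalRing WithZero

namespace Groth.L21.CurveScheme

open FunFld Groth.L22.Cyc Groth.Agent.FF

/-- In a reduced Artinian ring every element has a quasi-inverse. -/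
theorem exists_mul_mul_self {Q : Type u} [CommRing Q] [IsArtinianRing Q] [_root_.IsReduced Q] (g : Q) :
    ∃ y, g * y * g = g := by
  let F : ℕ →o (Submodule Q Q)ᵒᵈ := ⟨fun n => OrderDual.toDual (Ideal.span {g ^ n}), fun a b h =>
    Ideal.span_singleton_le_span_singleton.2 (pow_dvd_pow g h)⟩
  obtain ⟨n, hn⟩ := IsArtinian.monotone_stabilizes F
  obtain ⟨y, hy⟩ := Ideal.mem_span_singleton'.1
    ((OrderDual.toDual.injective (hn (n + 1) (Nat.le_succ n))) ▸ Ideal.mem_span_singleton_self (g ^ n) :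
      g ^ n ∈ Ideal.span {g ^ (n + 1)})
  refine ⟨y, ?_⟩
  have h : (g - g * y * g) ^ (n + 1) = 0 := by
    have e : g - g * y * g = g * (1 - y * g) := by ring
    have e2 : g ^ n * (1 - y * g) = 0 := by linear_combination (-1 : Q) * hy
    rw [e, mul_pow, pow_succ' (1 - y * g), pow_succ g]
    linear_combination g * (1 - y * g) ^ n * e2
  exact (sub_eq_zero.1 (IsReduced.eq_zero _ ⟨_, h⟩)).symm

variable {k : Type u} [Field k]

/-- Integral elements of the fraction field are bounded by powers of a parameter. -/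
theorem eventually_pow_mul_mem {O L : Type u} [CommRing O] [IsDomain O] [IsLocalRing O]
    [Ring.KrullDimLE 1 O] [Field L] [Algebra O L] [IsFractionRing O L] {t : O} (htm : t ∈ maximalIdeal O)
    (ht0 : t ≠ 0) {c : O} (hc : c ≠ 0) {x : L} (hx : IsIntegral O x) :
    ∃ J₀ : ℕ, ∀ J, J₀ ≤ J → ∃ z : O, algebraMap O L (c * z) = algebraMap O L t ^ J * x ^ J := by
  classical
  have hrad : ∀ w : O, w ≠ 0 → ∃ M, w ∣ t ^ M := fun w hw => by
    have ht : t ∈ (Ideal.span {w}).radical := by
      rw [Ideal.radical_eq_sInf]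
      refine Submodule.mem_sInf.2 fun q hq => ?_
      rcases Ring.krullDimLE_one_iff.1 inferInstance q hq.2 with h1 | h1
      · have : q = ⊥ := by simpa [IsDomain.minimalPrimes_eq_singleton_bot] using h1
        exact absurd (this ▸ hq.1 (Ideal.mem_span_singleton_self w)) (by simpa using hw)
      · exact (IsLocalRing.eq_maximalIdeal h1).symm ▸ htm
    obtain ⟨M, hM⟩ := ht
    exact ⟨M, Ideal.mem_span_singleton.1 hM⟩
  obtain ⟨G, hG⟩ := hx.fg_adjoin_singleton
  have hmem : ∀ J, x ^ J ∈ Submodule.span O (Set.range fun j : G => (j : L)) := by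
    intro J
    rw [Subtype.range_coe_subtype, Finset.setOf_mem, hG]
    exact pow_mem (Algebra.self_mem_adjoin_singleton O x) J
  obtain ⟨⟨w, hw⟩, hd⟩ := IsLocalization.exist_integer_multiples_of_finite (nonZeroDivisors O)
    (fun j : G => (j : L))
  obtain ⟨M, v, hM⟩ := hrad w (nonZeroDivisors.ne_zero hw)
  obtain ⟨C, v', hC⟩ := hrad c hc
  refine ⟨M + C, fun J hJ => ?_⟩
  have hw' : ∀ y ∈ Submodule.span O (Set.range fun j : G => (j : L)),
      ∃ z : O, algebraMap O L z = algebraMap O L w * y := by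
    intro y hy
    induction hy using Submodule.span_induction with
    | mem y hy =>
      obtain ⟨j, rfl⟩ := hy
      obtain ⟨z, hz⟩ := hd j
      exact ⟨z, hz.trans (Algebra.smul_def _ _)⟩
    | zero => exact ⟨0, by simp⟩
    | add a b _ _ ha hb =>
      obtain ⟨za, hza⟩ := ha
      obtain ⟨zb, hzb⟩ := hb
      exact ⟨za + zb, by rw [map_add, hza, hzb, mul_add]⟩
    | smul r a _ ha =>
      obtain ⟨za, hza⟩ := ha
      exact ⟨r * za, by rw [map_mul, hza, Algebra.smul_def]; ring⟩
  obtain ⟨z, hz⟩ := hw' _ (hmem J)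
  refine ⟨v' * v * z * t ^ (J - (M + C)), ?_⟩
  have e : c * (v' * v * z * t ^ (J - (M + C))) = t ^ (J - (M + C)) * t ^ C * v * z := by rw [hC]; ring
  have e2 : algebraMap O L t ^ M = algebraMap O L w * algebraMap O L v := by
    rw [← map_pow, ← map_mul, hM]
  rw [e, map_mul, map_mul, map_mul, map_pow, map_pow, hz]
  conv_rhs => rw [show J = (J - (M + C)) + C + M by omega, pow_add, pow_add, e2]
  rw [show (J - (M + C)) + C + M = J by omega]
  ring

/-- Membership of the integral closure is detected by the places. -/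
theorem isIntegral_of_forall_places {O L : Type u} [CommRing O] [Field L] [Algebra O L]
    [Algebra k O] [Algebra k L] [IsScalarTower k O L] (hK : IsFF k L) {z : L}
    (h : ∀ P ∈ PlacesOver k O L, P.1 z ≤ 1) : IsIntegral O z := by
  by_contra hz
  let S : Subring L := (integralClosure O L).toSubring
  have : IsIntegrallyClosedIn S L :=
    inferInstanceAs (IsIntegrallyClosedIn (integralClosure O L) L)
  obtain ⟨V, hSV, hzV⟩ := S.exists_le_valuationSubring_of_isIntegrallyClosedIn (x := z) hz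
  have hOV : ∀ a : O, algebraMap O L a ∈ V := fun a =>
    hSV (isIntegral_algebraMap : IsIntegral O (algebraMap O L a))
  have hkV : ∀ c : k, algebraMap k L c ∈ V := fun c => by
    rw [IsScalarTower.algebraMap_apply k O L]; exact hOV _
  have hz0 : z ≠ 0 := fun h0 => hzV (h0 ▸ zero_mem V)
  have hzi : z⁻¹ ∈ V.nonunits := V.mem_nonunits_iff_or.2 (Or.inr (by rwa [inv_inv]))
  obtain ⟨P, hP1, hP2⟩ := exists_place_of_valuationSubring V hkV hK ⟨z⁻¹, hzi, inv_ne_zero hz0⟩
  have h1 := hP2 _ hzi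
  rw [map_inv₀] at h1
  exact absurd h1 (not_lt.2 ((one_le_inv₀ (zero_lt_iff.2 (val_ne_zero P hz0))).2
    (h P fun a => hP1 _ (hOV a))))

/-- A function of a reduced zero-dimensional ring equal on every branch to an element of the maximal ideal
which vanishes on no branch. -/
theorem exists_eq_on_branches [Infinite k] {O Q : Type u} [CommRing O] [IsLocalRing O]
    [Ring.KrullDimLE 1 O] [Algebra k O] [CommRing Q] [Algebra k Q] [_root_.IsReduced Q] [IsArtinianRing Q]
    {ι : Type u} [Finite ι] (p : ι → Ideal O) [∀ i, (p i).IsPrime] (hm : ∀ i, p i ≠ maximalIdeal O)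
    (hinj : ∀ x, (∀ i, x ∈ p i) → x = 0) (hne : ∀ i j, i ≠ j → ¬ p j ≤ p i)
    (hK : ∀ i, IsFF k (FractionRing (O ⧸ p i)))
    (ψ : ∀ i, Q →ₐ[k] FractionRing (O ⧸ p i)) (hψ : ∀ i, (ψ i).toRingHom.IsIntegral) :
    ∃ (y : Q) (a : O), a ∈ maximalIdeal O ∧ (∀ i, a ∉ p i) ∧
      ∀ i, algebraMap (O ⧸ p i) (FractionRing (O ⧸ p i)) (Ideal.Quotient.mk (p i) a) = ψ i y := by
  classical
  haveI := Fintype.ofFinite ι
  haveI : ∀ i, IsLocalRing (O ⧸ p i) := fun i =>
    IsLocalRing.of_surjective' _ Ideal.Quotient.mk_surjective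
  haveI : ∀ i, Ring.KrullDimLE 1 (O ⧸ p i) := fun i =>
    Ring.krullDimLE_iff.2 ((ringKrullDim_quotient_le _).trans (Ring.krullDimLE_iff.1 inferInstance))
  have hnf : ∀ i, ¬ IsField (O ⧸ p i) := fun i hf =>
    hm i (IsLocalRing.eq_maximalIdeal ((Ideal.Quotient.maximal_ideal_iff_isField_quotient _).2 hf))
  have hS : ∀ i, (PlacesOver k (O ⧸ p i) (FractionRing (O ⧸ p i))).Finite := fun i =>
    finite_placesOver (hK i) (hnf i)
  haveI : ∀ i, Finite (PlacesOver k (O ⧸ p i) (FractionRing (O ⧸ p i))) := fun i => (hS i).to_subtype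
  -- a function with poles at every place and vanishing on no branch
  let W : (Σ i, PlacesOver k (O ⧸ p i) (FractionRing (O ⧸ p i))) ⊕ ι → Submodule k Q :=
    Sum.elim
      (fun iP =>
        { carrier := {g | iP.2.1.1 (ψ iP.1 g) ≤ 1}
          add_mem' := fun {a b} ha hb => by
            simp only [Set.mem_setOf_eq] at ha hb ⊢
            rw [map_add]; exact (Valuation.map_add _ _ _).trans (max_le ha hb)
          zero_mem' := by simp
          smul_mem' := fun c a ha => by
            simp only [Set.mem_setOf_eq] at ha ⊢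
            rw [map_smul, Algebra.smul_def, map_mul]
            exact mul_le_one' (iP.2.1.2.1 c) ha })
      (fun i => LinearMap.ker (ψ i).toLinearMap)
  have hW : ∀ j, W j ≠ ⊤ := by
    rintro (⟨i, P, hP⟩ | i) htop
    · have hQ : ∀ g : Q, P.1 (ψ i g) ≤ 1 := fun g =>
        (htop.ge (Submodule.mem_top : g ∈ (⊤ : Submodule k Q)) : g ∈ W (Sum.inl ⟨i, P, hP⟩))
      obtain ⟨z, -, hz⟩ := exists_val_eq P 1
      obtain ⟨f, hf, hf'⟩ := hψ i z
      let φ : Q →+* P.O := (ψ i).toRingHom.codRestrict P.O fun g => hQ g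
      have h1 : IsIntegral P.O z := by
        refine ⟨f.map φ, hf.map φ, ?_⟩
        rw [Polynomial.eval₂_map, show (algebraMap P.O _).comp φ = (ψ i).toRingHom from rfl]
        exact hf'
      obtain ⟨w, rfl⟩ := IsIntegrallyClosed.isIntegral_iff.1 h1
      exact not_lt.2 (hz.symm.trans_le w.2) (one_lt_exp'.2 (by norm_num))
    · have : (1 : Q) ∈ LinearMap.ker (ψ i).toLinearMap := htop.ge Submodule.mem_top
      simp at this
  obtain ⟨g, hg⟩ := Submodule.exists_forall_notMem_of_forall_ne_top W hW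
  obtain ⟨y₀, hy₀⟩ := exists_mul_mul_self g
  have hg0 : ∀ i, ψ i g ≠ 0 := fun i h => hg (Sum.inr i) h
  have hy : ∀ i, ψ i y₀ = (ψ i g)⁻¹ := fun i => by
    refine eq_inv_of_mul_eq_one_left (mul_right_cancel₀ (hg0 i) ?_)
    rw [one_mul, mul_comm (ψ i y₀), ← map_mul, ← map_mul, hy₀]
  have hlt : ∀ i, ∀ P ∈ PlacesOver k (O ⧸ p i) (FractionRing (O ⧸ p i)), P.1 (ψ i y₀) < 1 := fun i P hP => by
    rw [hy, map_inv₀]
    exact inv_lt_one_of_one_lt₀ (not_le.1 (hg (Sum.inl ⟨i, P, hP⟩)))
  -- a parameter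
  haveI : Nonempty ι := by
    by_contra hι
    rw [not_nonempty_iff] at hι
    exact one_ne_zero (hinj 1 fun i => isEmptyElim i)
  obtain ⟨t, htm, ht⟩ : ∃ t ∈ maximalIdeal O, ∀ i, t ∉ p i := by
    by_contra hcon
    push Not at hcon
    obtain ⟨i, -, hi⟩ := (Ideal.subset_union_prime (s := (Finset.univ : Finset ι)) (f := p) (I := maximalIdeal O)
      (Classical.arbitrary _) (Classical.arbitrary _) (fun i _ _ _ => inferInstance)).1
      fun x hx => by
        obtain ⟨i, hi⟩ := hcon x hx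
        simpa using ⟨i, hi⟩
    exact hm i ((IsLocalRing.maximalIdeal.isMaximal O).eq_of_le (Ideal.IsPrime.ne_top inferInstance) hi).symm
  -- large powers are integral after division by the parameter
  have hint : ∀ i, ∀ᶠ m : ℕ in Filter.atTop, IsIntegral (O ⧸ p i)
      (ψ i y₀ ^ m / algebraMap (O ⧸ p i) (FractionRing (O ⧸ p i)) (Ideal.Quotient.mk (p i) t)) := by
    intro i
    have ht0 : algebraMap (O ⧸ p i) (FractionRing (O ⧸ p i)) (Ideal.Quotient.mk (p i) t) ≠ 0 := fun h =>
      ht i (Ideal.Quotient.eq_zero_iff_mem.1 ((IsFractionRing.injective (O ⧸ p i) _) (h.trans (map_zero _).symm)))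
    have hy0 : ψ i y₀ ≠ 0 := by rw [hy]; exact inv_ne_zero (hg0 i)
    have hev : ∀ᶠ m : ℕ in Filter.atTop, ∀ P ∈ PlacesOver k (O ⧸ p i) (FractionRing (O ⧸ p i)),
        P.1 (ψ i y₀) ^ m ≤ P.1 (algebraMap _ _ (Ideal.Quotient.mk (p i) t)) := by
      refine (hS i).eventually_all.2 fun P hP => ?_
      set b := P.1 (ψ i y₀) with hb
      set c := P.1 (algebraMap _ _ (Ideal.Quotient.mk (p i) t)) with hc
      have hb0 : b ≠ 0 := val_ne_zero P hy0
      have hc0 : c ≠ 0 := val_ne_zero P ht0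
      refine Filter.eventually_atTop.2 ⟨(-WithZero.log c).toNat, fun m hmm => ?_⟩
      have hlb : WithZero.log b ≤ -1 := by
        have h := hlt i P hP
        rw [← hb, ← exp_log hb0, exp_lt_one'] at h
        omega
      rw [← exp_log hb0, ← exp_log hc0, ← exp_nsmul, exp_le_exp]
      have : (m : ℤ) * WithZero.log b ≤ (m : ℤ) * (-1) := mul_le_mul_of_nonneg_left hlb (Int.natCast_nonneg m)
      simp only [nsmul_eq_mul]
      omega
    filter_upwards [hev] with m hm'
    refine isIntegral_of_forall_places (hK i) fun P hP => ?_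
    rw [map_div₀, map_pow]
    exact div_le_one_of_le₀ (hm' P hP) zero_le
  obtain ⟨m, hm'⟩ := (Filter.eventually_all.2 hint).exists
  -- idempotent-like elements
  have he : ∀ i, ∃ e : O, e ∉ p i ∧ ∀ j, j ≠ i → e ∈ p j := fun i => by
    choose s hs hs' using fun j : {j // j ≠ i} => SetLike.not_le_iff_exists.1 (hne i j.1 (Ne.symm j.2))
    refine ⟨∏ j, s j, fun h => ?_, fun j hj => ?_⟩
    · obtain ⟨j, -, hj⟩ := (Ideal.IsPrime.prod_mem_iff (p := p i)).1 h
      exact hs' j hj
    · rw [Fintype.prod_eq_mul_prod_compl ⟨j, hj⟩]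
      exact Ideal.mul_mem_right _ _ (hs ⟨j, hj⟩)
  choose e he he' using he
  have hJ : ∀ i, ∀ᶠ J : ℕ in Filter.atTop, ∃ z : O ⧸ p i,
      algebraMap (O ⧸ p i) (FractionRing (O ⧸ p i)) (Ideal.Quotient.mk (p i) (e i * t) * z) =
        ψ i y₀ ^ (m * J) := by
    intro i
    have ht0 : Ideal.Quotient.mk (p i) t ≠ 0 := fun h => ht i (Ideal.Quotient.eq_zero_iff_mem.1 h)
    have hc : Ideal.Quotient.mk (p i) (e i * t) ≠ 0 := by
      rw [map_mul]
      exact mul_ne_zero (fun h => he i (Ideal.Quotient.eq_zero_iff_mem.1 h)) ht0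
    obtain ⟨J₀, hJ₀⟩ := eventually_pow_mul_mem (O := O ⧸ p i) (L := FractionRing (O ⧸ p i))
      (by
        rw [IsLocalRing.mem_maximalIdeal, mem_nonunits_iff]
        intro hu
        haveI : IsLocalHom (Ideal.Quotient.mk (p i)) := IsLocalHom.of_surjective _ Ideal.Quotient.mk_surjective
        exact (IsLocalRing.mem_maximalIdeal _).1 htm (IsUnit.of_map (Ideal.Quotient.mk (p i)) t hu))
      ht0 hc (hm' i)
    filter_upwards [Filter.eventually_ge_atTop J₀] with J hJJ
    obtain ⟨z, hz⟩ := hJ₀ J hJJ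
    refine ⟨z, hz.trans ?_⟩
    rw [← mul_pow, mul_div_cancel₀ _
      (fun h => ht0 (IsFractionRing.injective (O ⧸ p i) _ (h.trans (map_zero _).symm))), ← pow_mul]
  obtain ⟨J, hJ'⟩ := (Filter.eventually_all.2 hJ).exists
  choose z hz using hJ'
  choose z' hz' using fun i => Ideal.Quotient.mk_surjective (z i)
  refine ⟨y₀ ^ (m * J), ∑ i, e i * t * z' i, ?_, fun i hi => ?_, ?_⟩
  · exact Ideal.sum_mem _ fun i _ => Ideal.mul_mem_right _ _ (Ideal.mul_mem_left _ _ htm)
  all_goals
    have hsum : ∀ i, algebraMap (O ⧸ p i) (FractionRing (O ⧸ p i))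
        (Ideal.Quotient.mk (p i) (∑ j, e j * t * z' j)) = ψ i (y₀ ^ (m * J)) := fun i => by
      rw [map_sum (Ideal.Quotient.mk (p i)), Finset.sum_eq_single i (fun j _ hj =>
          Ideal.Quotient.eq_zero_iff_mem.2 (Ideal.mul_mem_right _ _ (Ideal.mul_mem_right _ _ (he' j i (Ne.symm hj)))))
        (fun h => absurd (Finset.mem_univ i) h), map_mul (Ideal.Quotient.mk (p i)), hz', hz, map_pow]
  · have := hsum i
    rw [Ideal.Quotient.eq_zero_iff_mem.2 hi, map_zero, map_pow, hy] at this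
    exact pow_ne_zero _ (inv_ne_zero (hg0 i)) this.symm
  · exact hsum

end Groth.L21.CurveScheme
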