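import Groth.Agent.L21.CurveScheme.Descend
import Groth.Agent.L23.ReducedStalk
import Mathlib.RingTheory.Etale.QuasiFinite
import Mathlib.FieldTheory.IsAlgClosed.Basic

/-!
Closed points of a reduced curve over an infinite field are schematic.
-/

set_option autoImplicit false
set_option linter.style.haveILetI false

universe u

open CategoryTheory CategoryTheory.Limits AlgebraicGeometry AlgSp TopologicalSpace

set_option backward.isDefEq.respectTransparency.types false
set_option backward.isDefEq.respectTransparency false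

noncomputable section

namespace Groth.L21.CurveScheme

open Groth.L23

variable {S : Scheme.{u}} {k : Type u} [Field k] {t₀ : Spec (CommRingCat.of k) ⟶ S} {X : Sp S}
  {π : X ⟶ (yon S).obj (Over.mk t₀)}

/-- Specialisation-minimal points of an affine scheme are its minimal primes. -/
theorem mem_minimalPrimes_iff {A : CommRingCat.{u}} (x : Spec A) :
    x.asIdeal ∈ minimalPrimes A ↔ ∀ y, y ⤳ x → y = x := by
  constructor
  · intro h y hy
    exact PrimeSpectrum.ext (le_antisymm ((PrimeSpectrum.le_iff_specializes y x).2 hy)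
      (h.2 ⟨y.isPrime, bot_le⟩ ((PrimeSpectrum.le_iff_specializes y x).2 hy)))
  · intro h
    refine ⟨⟨x.isPrime, bot_le⟩, fun q hq hqx => ?_⟩
    have := h ⟨q, hq.1⟩ ((PrimeSpectrum.le_iff_specializes _ x).1 hqx)
    exact (congrArg PrimeSpectrum.asIdeal this).ge

/-- A dense basic open of the chart over an affine open subscheme. -/
theorem exists_base (hX : IsAlgSpace X) (hsep : IsSeparatedMor π) (A : CommRingCat.{u}) (σ : Spec A ⟶ S)
    (a : (yon S).obj (Over.mk σ) ⟶ X) (ha : RepWith @Etale a) [IsNoetherianRing A]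
    (hgen : ∀ η : Spec A, η.asIdeal ∈ minimalPrimes A → SL.SchemePt (Points.ofPt a η)) :
    ∃ (t : A) (B : CommRingCat.{u}) (τ : Spec B ⟶ S) (j : (yon S).obj (Over.mk τ) ⟶ X)
      (ψ : (Over.mk (Spec.map (CommRingCat.ofHom (algebraMap A (Localization.Away t))) ≫ σ) : Over S) ⟶ Over.mk τ),
      (∀ p ∈ minimalPrimes A, t ∉ p) ∧ RepWith @IsOpenImmersion j ∧ Etale ψ.left ∧
        (yon S).map ψ ≫ j = (yon S).map (Over.homMk (Spec.map (CommRingCat.ofHom (algebraMap A (Localization.Away t)))) rfl :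
          (Over.mk (Spec.map (CommRingCat.ofHom (algebraMap A (Localization.Away t))) ≫ σ) : Over S) ⟶ Over.mk σ) ≫ a := by
  classical
  let U : Over S := Over.mk σ
  -- the schematic locus
  obtain ⟨X', jX', hjX', hrep, hlocus⟩ := SL.exists_locus hX
  obtain ⟨G, ⟨eG⟩⟩ := Groth.L23.isRepresentable_iff_exists_iso.1 hrep
  let jG : (yon S).obj G ⟶ X := eG.hom ≫ jX'
  have hjG : RepWith @IsOpenImmersion jG :=
    repWith_comp (repWith_of_isIso (P := (@IsOpenImmersion : MorphismProperty Scheme.{u})) eG.hom) hjX'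
  have hjGe : RepWith @Etale jG :=
    repWith_mono (fun φ (_ : IsOpenImmersion φ) => inferInstanceAs (Etale φ)) hjG
  have := mono_of_repWith_openImmersion hjG
  have : QuasiSeparatedSpace G.left := quasiSeparatedSpace_chart hX hsep G jG
  obtain ⟨P, p, q, sq⟩ := exists_isPullback_of_representable (hX.representable_from_yon a) jG
  have : IsOpenImmersion p.left := repWith_prop hjG sq.flip
  have : Etale q.left := repWith_prop ha sq
  have hgenP : ∀ η : Spec A, η.asIdeal ∈ minimalPrimes A → ∃ z, p.left z = η := fun η hη => by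
    obtain ⟨y, hy⟩ := hlocus.ge (hgen η hη)
    obtain ⟨w, hw⟩ := (Points.schemeEquiv G).surjective (Points.map eG.inv y)
    have : Points.ofPt jG w = Points.ofPt a η := by
      rw [Points.ofPt_eq_map_ofScheme, show Points.ofScheme G w = _ from hw, ← Points.map_comp,
        Iso.inv_hom_id_assoc, hy]
    obtain ⟨z, hz, -⟩ := (ofPt_eq_ofPt_iff sq η w).1 this.symm
    exact ⟨z, hz⟩
  choose z hz using hgenP
  let F : Set G.left := Set.range fun η : {η : Spec A // η.asIdeal ∈ minimalPrimes A} => q.left (z η.1 η.2)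
  haveI : Finite {η : Spec A // η.asIdeal ∈ minimalPrimes A} :=
    ((minimalPrimes.finite_of_isNoetherianRing A).preimage
      (fun x _ y _ h => PrimeSpectrum.ext h)).to_subtype
  obtain ⟨V₀, hV₀, hFV, -⟩ := Gen.exists_affine_of_finite (F := F) (Set.finite_range _)
    (by
      rintro _ ⟨η, rfl⟩
      refine SL.minimal_of_eq hX ha hjGe ((mem_minimalPrimes_iff η.1).1 η.2) ?_
      rw [← hz η.1 η.2]
      exact (ofPt_eq_ofPt_iff sq _ _).2 ⟨z η.1 η.2, rfl, rfl⟩) ⊤ (by simp)
  -- a dense basic open of the chart over it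
  let D : (Spec A).Opens := p.left ''ᵁ (q.left ⁻¹ᵁ V₀)
  have hD : ∀ η : Spec A, η.asIdeal ∈ minimalPrimes A → η ∈ D := fun η hη =>
    ⟨z η hη, hFV ⟨⟨η, hη⟩, rfl⟩, hz η hη⟩
  obtain ⟨I, hI⟩ := (PrimeSpectrum.isClosed_iff_zeroLocus_ideal ((D : Set (Spec A))ᶜ)).1 D.2.isClosed_compl
  obtain ⟨t, htI, ht⟩ : ∃ t ∈ I, ∀ p ∈ minimalPrimes A, t ∉ p := by
    by_contra hcon
    push Not at hcon
    obtain ⟨p₀, hp₀, hle⟩ := (Ideal.subset_union_prime (s := (minimalPrimes.finite_of_isNoetherianRing A).toFinset)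
      (f := id) (I := I) ⊥ ⊥ (fun i hi _ _ => ((Set.Finite.mem_toFinset _).1 hi).1.1)).1 fun x hx => by
        obtain ⟨p₀, hp₀, hxp⟩ := hcon x hx
        exact Set.mem_iUnion₂.2 ⟨p₀, (Set.Finite.mem_toFinset _).2 hp₀, hxp⟩
    have hp := (Set.Finite.mem_toFinset _).1 hp₀
    have : (⟨p₀, hp.1.1⟩ : Spec A) ∈ ((D : Set (Spec A))ᶜ) := by
      rw [hI]; exact hle
    exact this (hD _ hp)
  have htD : ∀ x : Spec A, t ∉ x.asIdeal → x ∈ D := fun x hx => by
    by_contra hxD
    have : x ∈ PrimeSpectrum.zeroLocus (I : Set A) := hI ▸ (show x ∈ ((D : Set (Spec A))ᶜ) from hxD)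
    exact hx (this htI)
  let T := Localization.Away t
  let T' : Over S := Over.mk (Spec.map (CommRingCat.ofHom (algebraMap A T)) ≫ σ)
  let ιT : T' ⟶ U := Over.homMk (Spec.map (CommRingCat.ofHom (algebraMap A T))) rfl
  haveI : IsOpenImmersion ιT.left := IsOpenImmersion.of_isLocalization t
  have hrT : ∀ y, ιT.left y ∈ D := fun y => htD _ fun h => by
    have hu : IsUnit (algebraMap A T t) := IsLocalization.Away.algebraMap_isUnit t
    exact y.isPrime.ne_top (Ideal.eq_top_of_isUnit_mem _ h hu)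
  let l : T'.left ⟶ P.left := IsOpenImmersion.lift p.left ιT.left (by
    rintro _ ⟨y, rfl⟩
    obtain ⟨w, -, hw⟩ := hrT y
    exact ⟨w, hw⟩)
  have hl : l ≫ p.left = ιT.left := IsOpenImmersion.lift_fac _ _ _
  haveI : IsOpenImmersion l := by
    have : IsOpenImmersion (l ≫ p.left) := hl ▸ ‹_›
    exact IsOpenImmersion.of_comp l p.left
  have hrl : Set.range (l ≫ q.left) ⊆ Set.range V₀.ι := by
    rintro _ ⟨y, rfl⟩
    rw [Scheme.Opens.range_ι]
    obtain ⟨w, hw, hw'⟩ := hrT y
    have : l y = w := p.left.isOpenEmbedding.injective (by rw [← Scheme.Hom.comp_apply, hl]; exact hw'.symm)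
    show q.left (l y) ∈ V₀
    rw [this]
    exact hw
  let B : CommRingCat.{u} := Γ(G.left, V₀)
  let jV : Spec B ⟶ G.left := hV₀.fromSpec
  let VB : Over S := Over.mk (jV ≫ G.hom)
  let jVo : VB ⟶ G := Over.homMk jV rfl
  let j : (yon S).obj VB ⟶ X := (yon S).map jVo ≫ jG
  have hj : RepWith @IsOpenImmersion j := repWith_comp (repWith_map (show IsOpenImmersion jV from inferInstance)) hjG
  have := mono_of_repWith_openImmersion hj
  have hje : RepWith @Etale j :=
    repWith_mono (fun φ (_ : IsOpenImmersion φ) => inferInstanceAs (Etale φ)) hj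
  let ψ₀ : T'.left ⟶ Spec B := IsOpenImmersion.lift jV (l ≫ q.left) (by
    rintro _ ⟨y, rfl⟩
    rw [hV₀.range_fromSpec]
    have := hrl ⟨y, rfl⟩
    rwa [Scheme.Opens.range_ι] at this)
  have hψ₀ : ψ₀ ≫ jV = l ≫ q.left := IsOpenImmersion.lift_fac _ _ _
  let ψ : T' ⟶ VB := Over.homMk ψ₀ (by
    show ψ₀ ≫ jV ≫ G.hom = ιT.left ≫ σ
    rw [← Category.assoc, hψ₀, Category.assoc, Over.w q, ← hl, Category.assoc]
    exact congrArg (l ≫ ·) (Over.w p).symm)
  have hψj : (yon S).map ψ ≫ j = (yon S).map ιT ≫ a := by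
    let l' : T' ⟶ P := Over.homMk l (by
      show l ≫ P.hom = ιT.left ≫ σ
      rw [← hl, Category.assoc]
      exact congrArg (l ≫ ·) (Over.w p).symm)
    rw [show ιT = l' ≫ p from Over.OverMorphism.ext hl.symm, ← Category.assoc, ← Functor.map_comp,
      show ψ ≫ jVo = l' ≫ q from Over.OverMorphism.ext hψ₀, Functor.map_comp, Functor.map_comp,
      Category.assoc, Category.assoc, sq.w]
  haveI : Etale ψ₀ := by
    have : Etale (ψ₀ ≫ jV) := by rw [hψ₀]; infer_instance
    exact Etale.of_comp ψ₀ jV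
  exact ⟨t, B, jV ≫ G.hom, j, ψ, ht, hj, ‹Etale ψ₀›, hψj⟩

end Groth.L21.CurveScheme
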