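import Groth.Agent.L21.CurveScheme.Algebra
import Groth.Agent.L22.Norm.Reduced
import Mathlib.RingTheory.QuasiFinite.Basic
import Mathlib.RingTheory.Flat.Localization
import Mathlib.RingTheory.Ideal.GoingDown
import Mathlib.RingTheory.Ideal.MinimalPrime.Localization

/-!
A chart of a curve over a point: a function of the base agreeing near the point with a function vanishing at it.
-/

set_option autoImplicit false
set_option linter.style.haveILetI false
set_option backward.isDefEq.respectTransparency false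

universe u

open IsLocalRing

namespace Groth.L21.CurveScheme

/-- The ring theoretic input: `B` is quasi-finite and flat below a dense basic open `T = A[1/t]` of the chart `A`. -/
theorem exists_fun_eq {k A B T : Type u} [Field k] [Infinite k] [CommRing A] [Algebra k A]
    [Algebra.FiniteType k A] [_root_.IsReduced A] [Ring.KrullDimLE 1 A] [CommRing B] [Algebra k B]
    [_root_.IsReduced B] [IsNoetherianRing B] [CommRing T] [Algebra A T] [Algebra k T] [IsScalarTower k A T]
    (t : A) [IsLocalization.Away t T] (ht : ∀ p ∈ minimalPrimes A, t ∉ p)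
    [Algebra B T] [IsScalarTower k B T] [Algebra.QuasiFinite B T] [Module.Flat B T]
    (m : Ideal A) [m.IsMaximal] (hm : m ∉ minimalPrimes A) :
    ∃ (s : nonZeroDivisors B) (c : B) (a u : A), u ∉ m ∧ a ∈ m ∧ (∀ p ∈ minimalPrimes A, u ∉ p → a ∉ p) ∧
      algebraMap A T a * algebraMap B T s = algebraMap B T c * algebraMap A T u := by
  classical
  haveI : IsNoetherianRing A := Algebra.FiniteType.isNoetherianRing k A
  haveI : _root_.IsReduced T := isReduced_localizationPreserves (Submonoid.powers t) T inferInstance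
  let O := Localization.AtPrime m
  let ι := {p : Ideal A // p ∈ minimalPrimes A ∧ p ≤ m}
  haveI : Finite ι := ((minimalPrimes.finite_of_isNoetherianRing A).subset fun p hp => hp.1).to_subtype
  haveI hprime : ∀ i : ι, i.1.IsPrime := fun i => i.2.1.1.1
  have hdisj : ∀ i : ι, Disjoint (m.primeCompl : Set A) i.1 := fun i =>
    Set.disjoint_left.2 fun x hx hxp => hx (i.2.2 hxp)
  let p : ι → Ideal O := fun i => i.1.map (algebraMap A O)
  haveI hpp : ∀ i, (p i).IsPrime := fun i =>
    IsLocalization.isPrime_of_isPrime_disjoint m.primeCompl _ _ (hprime i) (hdisj i)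
  have hcomap : ∀ i, (p i).comap (algebraMap A O) = i.1 := fun i =>
    IsLocalization.under_map_of_isPrime_disjoint m.primeCompl O (hprime i) (hdisj i)
  haveI : Ring.KrullDimLE 1 O :=
    Ring.krullDimLE_iff.2 (by
      rw [IsLocalization.AtPrime.ringKrullDim_eq_height m O]
      exact (Ideal.height_le_ringKrullDim_of_ne_top (Ideal.IsMaximal.ne_top inferInstance)).trans
        (Ring.krullDimLE_iff.1 inferInstance))
  let L : ι → Type u := fun i => FractionRing (O ⧸ p i)
  let α : ∀ i, A →+* L i := fun i =>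
    (algebraMap (O ⧸ p i) (L i)).comp ((Ideal.Quotient.mk (p i)).comp (algebraMap A O))
  have hα : ∀ i x, α i x = 0 ↔ x ∈ i.1 := fun i x => by
    show algebraMap (O ⧸ p i) (L i) _ = 0 ↔ _
    rw [map_eq_zero_iff _ (IsFractionRing.injective _ _)]
    show Ideal.Quotient.mk (p i) (algebraMap A O x) = 0 ↔ _
    rw [Ideal.Quotient.eq_zero_iff_mem, ← Ideal.mem_comap, hcomap]
  have hunit : ∀ i, IsUnit (α i t) := fun i =>
    isUnit_iff_ne_zero.2 fun h => ht _ i.2.1 ((hα i t).1 h)
  let β : ∀ i, T →+* L i := fun i => IsLocalization.Away.lift t (hunit i)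
  have hβ : ∀ i x, β i (algebraMap A T x) = α i x := fun i x => IsLocalization.Away.lift_eq t (hunit i) x
  letI : ∀ i, Algebra T (L i) := fun i => (β i).toAlgebra
  haveI : ∀ i, IsScalarTower A T (L i) := fun i => IsScalarTower.of_algebraMap_eq fun x =>
    (show algebraMap A (L i) x = α i x from rfl).trans (hβ i x).symm
  haveI : ∀ i, IsScalarTower k T (L i) := fun i => IsScalarTower.of_algebraMap_eq fun c => by
    rw [IsScalarTower.algebraMap_apply k A T, IsScalarTower.algebraMap_apply k A (L i)]
    exact IsScalarTower.algebraMap_apply A T (L i) _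
  let γ : ∀ i, B →+* L i := fun i => (β i).comp (algebraMap B T)
  letI : ∀ i, Algebra B (L i) := fun i => (γ i).toAlgebra
  haveI : ∀ i, IsScalarTower B T (L i) := fun i => IsScalarTower.of_algebraMap_eq fun x => rfl
  haveI : ∀ i, IsScalarTower k B (L i) := fun i => IsScalarTower.of_algebraMap_eq fun c => by
    show algebraMap k (L i) c = β i (algebraMap B T (algebraMap k B c))
    rw [← IsScalarTower.algebraMap_apply k B T]
    exact IsScalarTower.algebraMap_apply k T (L i) c
  -- the generic points of the chart lie over generic points of the base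
  have hnzd : ∀ i (x : nonZeroDivisors B), IsUnit (γ i x) := fun i x => by
    refine isUnit_iff_ne_zero.2 fun h => ?_
    let P : Ideal T := RingHom.ker (β i)
    haveI hP : P.IsPrime := RingHom.ker_isPrime _
    have hPA : P.comap (algebraMap A T) = i.1 := by
      ext y
      rw [Ideal.mem_comap, RingHom.mem_ker, hβ, hα]
    have hPmin : P ∈ minimalPrimes T := by
      refine ⟨⟨hP, bot_le⟩, fun Q hQ hQP => ?_⟩
      have h1 : Q.comap (algebraMap A T) = i.1 := le_antisymm (hPA ▸ Ideal.comap_mono hQP)
        (i.2.1.2 ⟨hQ.1.comap _, bot_le⟩ (hPA ▸ Ideal.comap_mono hQP))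
      rw [← IsLocalization.map_under (Submonoid.powers t) T P,
        ← IsLocalization.map_under (Submonoid.powers t) T Q]
      exact (congrArg (Ideal.map (algebraMap A T)) (hPA.trans h1.symm)).le
    have hq : P.comap (algebraMap B T) ∈ minimalPrimes B := by
      refine ⟨⟨hP.comap _, bot_le⟩, fun Q hQ hQP => ?_⟩
      haveI := hQ.1
      haveI : (P.comap (algebraMap B T)).IsPrime := hP.comap _
      haveI : P.LiesOver (P.comap (algebraMap B T)) := ⟨rfl⟩
      obtain ⟨P', hP'P, hP', hP'Q⟩ := Ideal.exists_ideal_le_liesOver_of_le (S := T) P hQP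
      haveI := hP'
      have : P' = P := le_antisymm hP'P (hPmin.2 ⟨hP', bot_le⟩ hP'P)
      subst this
      rw [hP'Q.over]
    exact (Set.disjoint_left.1 (Ideal.disjoint_nonZeroDivisors_of_mem_minimalPrimes hq)
      (show (x : B) ∈ P.comap (algebraMap B T) from RingHom.mem_ker.2 h)) x.2
  let ψ : ∀ i, FractionRing B →ₐ[k] L i := fun i =>
    IsLocalization.liftAlgHom (M := nonZeroDivisors B) (f := IsScalarTower.toAlgHom k B (L i)) (hnzd i)
  haveI : IsArtinianRing (FractionRing B) := Groth.L22.Norm.isArtinianRing_fractionRing B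
  haveI : _root_.IsReduced (FractionRing B) := isReduced_localizationPreserves (nonZeroDivisors B) (FractionRing B) inferInstance
  have hint : ∀ i, (ψ i).toRingHom.IsIntegral := fun i => by
    letI : Algebra (FractionRing B) (L i) := (ψ i).toRingHom.toAlgebra
    haveI : IsScalarTower B (FractionRing B) (L i) :=
      IsScalarTower.of_algebraMap_eq fun x => (IsLocalization.lift_eq _ x).symm
    haveI h1 : Algebra.QuasiFinite A (L i) := by
      haveI : Algebra.QuasiFinite (O ⧸ p i) (L i) := inferInstanceAs (Algebra.QuasiFinite (O ⧸ p i) (FractionRing (O ⧸ p i)))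
      exact Algebra.QuasiFinite.trans A (O ⧸ p i) (L i)
    haveI : Algebra.QuasiFinite T (L i) := Algebra.QuasiFinite.of_restrictScalars A T (L i)
    haveI : Algebra.QuasiFinite B (L i) := Algebra.QuasiFinite.trans B T (L i)
    haveI : Algebra.QuasiFinite (FractionRing B) (L i) :=
      Algebra.QuasiFinite.of_restrictScalars B (FractionRing B) (L i)
    haveI : Module.Finite (FractionRing B) (L i) := Module.Finite.of_quasiFinite
    exact fun z => Algebra.IsIntegral.isIntegral z
  have hK : ∀ i, Groth.Agent.FF.IsFF k (FractionRing (O ⧸ p i)) := fun i => by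
    let g : A →ₐ[k] L i := IsScalarTower.toAlgHom k A (L i)
    have hg : ∀ x, g x = α i x := fun x => rfl
    haveI : Algebra.FiniteType k g.range := Algebra.FiniteType.of_surjective g.rangeRestrict g.rangeRestrict_surjective
    haveI : IsFractionRing g.range (L i) := IsFractionRing.of_field _ _ fun z => by
      obtain ⟨n, d, -, rfl⟩ := IsFractionRing.div_surjective (A := O ⧸ p i) z
      obtain ⟨n, rfl⟩ := Ideal.Quotient.mk_surjective n
      obtain ⟨d, rfl⟩ := Ideal.Quotient.mk_surjective d
      obtain ⟨n₁, n₂, rfl⟩ := IsLocalization.exists_mk'_eq m.primeCompl n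
      obtain ⟨d₁, d₂, rfl⟩ := IsLocalization.exists_mk'_eq m.primeCompl d
      have hh : ∀ (x : A) (y : m.primeCompl), α i y ≠ 0 ∧ algebraMap (O ⧸ p i) (FractionRing (O ⧸ p i))
          (Ideal.Quotient.mk (p i) (IsLocalization.mk' O x y)) = α i x / α i y := fun x y => by
        have h0 : α i y ≠ 0 := fun h => y.2 (i.2.2 ((hα i _).1 h))
        refine ⟨h0, (eq_div_iff h0).2 ?_⟩
        show _ * algebraMap (O ⧸ p i) _ _ = algebraMap (O ⧸ p i) _ _
        rw [← map_mul]
        refine congrArg _ ?_
        show _ * Ideal.Quotient.mk (p i) (algebraMap A O y) = Ideal.Quotient.mk (p i) (algebraMap A O x)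
        rw [← map_mul, IsLocalization.mk'_spec]
      refine ⟨g.rangeRestrict (n₁ * d₂), g.rangeRestrict (n₂ * d₁), ?_⟩
      rw [(hh n₁ n₂).2, (hh d₁ d₂).2]
      show _ = α i (n₁ * d₂) / α i (n₂ * d₁)
      rw [map_mul, map_mul, div_div_div_eq]
    have hker : RingHom.ker g.toRingHom = i.1 := by
      ext x
      exact hα i x
    let e : (A ⧸ i.1) ≃+* g.range := (Ideal.quotEquivOfEq hker.symm).trans
      (RingHom.quotientKerEquivOfSurjective (f := g.rangeRestrict.toRingHom) g.rangeRestrict_surjective |>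
        (Ideal.quotEquivOfEq (show RingHom.ker g.toRingHom = RingHom.ker g.rangeRestrict.toRingHom by
          ext x; simp [RingHom.mem_ker, Subtype.ext_iff])).trans)
    refine Groth.L22.Cyc.isFF_of_finiteType (A := g.range) ?_
    rw [← ringKrullDim_eq_of_ringEquiv e]
    refine le_antisymm ((ringKrullDim_quotient_le _).trans (Ring.krullDimLE_iff.1 inferInstance)) ?_
    rw [Nat.cast_one]
    by_contra hlt
    haveI : IsDomain (A ⧸ i.1) := Ideal.Quotient.isDomain _
    haveI h0 : Ring.KrullDimLE 0 (A ⧸ i.1) := Ring.krullDimLE_iff.2 (by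
      rw [Nat.cast_zero]
      exact Order.le_of_lt_succ (not_le.1 hlt))
    have hf : IsField (A ⧸ i.1) := Ring.KrullDimLE.isField_of_isDomain
    have := (Ideal.Quotient.maximal_ideal_iff_isField_quotient _).2 hf
    exact hm (this.eq_of_le (Ideal.IsMaximal.ne_top inferInstance) i.2.2 ▸ i.2.1)
  have hpm : ∀ i, p i ≠ maximalIdeal O := fun i h => hm (by
    have := congrArg (Ideal.comap (algebraMap A O)) h
    rw [hcomap, show (maximalIdeal O).comap (algebraMap A O) = m from IsLocalization.AtPrime.under_maximalIdeal O m] at this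
    exact this ▸ i.2.1)
  obtain ⟨y, a₀, ha₀, ha₀', heq⟩ := exists_eq_on_branches p hpm
    (fun x hx => by
      obtain ⟨x₁, x₂, rfl⟩ := IsLocalization.exists_mk'_eq m.primeCompl x
      refine IsReduced.eq_zero _ ((mem_nilradical).1 ?_)
      rw [nilradical_eq_sInf]
      refine Submodule.mem_sInf.2 fun (q : Ideal O) hq => ?_
      haveI : q.IsPrime := hq
      obtain ⟨p₀, hp₀, hp₀q⟩ := Ideal.exists_minimalPrimes_le (I := ⊥) (J := q.comap (algebraMap A O)) bot_le
      have hle : p₀ ≤ m := fun z hz => by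
        by_contra hzm
        exact (hq.ne_top (Ideal.eq_top_of_isUnit_mem _ (hp₀q hz) (IsLocalization.map_units O (⟨z, hzm⟩ : m.primeCompl))))
      refine (IsLocalization.mk'_mem_iff).2 (hp₀q ?_)
      exact (Ideal.ext_iff.1 (hcomap ⟨p₀, hp₀, hle⟩) x₁).1 (IsLocalization.mk'_mem_iff.1 (hx ⟨p₀, hp₀, hle⟩)))
    (fun i j hij h => hij (Subtype.ext (le_antisymm
      (i.2.1.2 ⟨hprime j, bot_le⟩ (hcomap i ▸ hcomap j ▸ Ideal.comap_mono h))
      (hcomap i ▸ hcomap j ▸ Ideal.comap_mono h))))
    hK ψ hint
  obtain ⟨a₁, u₁, rfl⟩ := IsLocalization.exists_mk'_eq m.primeCompl a₀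
  obtain ⟨c, s, rfl⟩ := IsLocalization.exists_mk'_eq (nonZeroDivisors B) y
  -- remove the other components
  let others : Finset (Ideal A) := (minimalPrimes.finite_of_isNoetherianRing A).toFinset.filter fun q => ¬ q ≤ m
  obtain ⟨w, hwm, hw⟩ : ∃ w, w ∉ m ∧ ∀ q ∈ minimalPrimes A, ¬ q ≤ m → w ∈ q := by
    choose! f hf hf' using fun q (hq : q ∈ others) => SetLike.not_le_iff_exists.1 (Finset.mem_filter.1 hq).2
    refine ⟨∏ q ∈ others, f q, fun h => ?_, fun q hq hqm => ?_⟩
    · obtain ⟨q, hq, hq'⟩ := (Ideal.IsPrime.prod_mem_iff (p := m)).1 h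
      exact hf' q hq hq'
    · have hmem : q ∈ others := Finset.mem_filter.2 ⟨(Set.Finite.mem_toFinset _).2 hq, hqm⟩
      rw [← Finset.mul_prod_erase _ _ hmem]
      exact Ideal.mul_mem_right _ _ (hf q hmem)
  refine ⟨s, c, a₁ * w, u₁ * w, fun h => ?_, ?_, fun q hq hu => ?_, ?_⟩
  · rcases (Ideal.IsPrime.mem_or_mem inferInstance h) with h | h
    exacts [u₁.2 h, hwm h]
  · exact Ideal.mul_mem_right _ _ ((IsLocalization.AtPrime.mk'_mem_maximal_iff O m a₁ u₁).1 ha₀)
  · haveI := hq.1.1
    have hqm : q ≤ m := by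
      by_contra hqm
      exact hu (Ideal.mul_mem_left _ _ (hw q hq hqm))
    intro h
    rcases (Ideal.IsPrime.mem_or_mem hq.1.1 h) with h | h
    · refine ha₀' ⟨q, hq, hqm⟩ (IsLocalization.mk'_mem_iff.2 ?_)
      exact Ideal.mem_map_of_mem _ h
    · exact hu (Ideal.mul_mem_left _ _ h)
  · refine sub_eq_zero.1 (IsReduced.eq_zero _ ((mem_nilradical).1 ?_))
    rw [nilradical_eq_sInf]
    refine Submodule.mem_sInf.2 fun (P : Ideal T) hP => ?_
    haveI : P.IsPrime := hP
    obtain ⟨q, hq, hqP⟩ := Ideal.exists_minimalPrimes_le (I := ⊥) (J := P.comap (algebraMap A T)) bot_le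
    by_cases hqm : q ≤ m
    · let i : ι := ⟨q, hq, hqm⟩
      have h0 : β i (algebraMap A T (a₁ * w) * algebraMap B T s -
          algebraMap B T c * algebraMap A T (u₁ * w)) = 0 := by
        have hu0 : α i u₁ ≠ 0 := fun h => u₁.2 (hqm ((hα i _).1 h))
        have e1 : algebraMap (O ⧸ p i) (FractionRing (O ⧸ p i))
            (Ideal.Quotient.mk (p i) (IsLocalization.mk' O a₁ u₁)) * α i u₁ = α i a₁ := by
          show _ * algebraMap (O ⧸ p i) _ _ = algebraMap (O ⧸ p i) _ _
          rw [← map_mul]
          refine congrArg _ ?_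
          show _ * Ideal.Quotient.mk (p i) (algebraMap A O u₁) = Ideal.Quotient.mk (p i) (algebraMap A O a₁)
          rw [← map_mul, IsLocalization.mk'_spec]
        have e2 : ψ i (IsLocalization.mk' (FractionRing B) c s) * γ i s = γ i c := by
          have e3 : ∀ x, ψ i (algebraMap B (FractionRing B) x) = γ i x := fun x => IsLocalization.lift_eq _ x
          rw [← e3, ← map_mul, IsLocalization.mk'_spec, e3]
        rw [heq i] at e1
        simp only [map_sub, map_mul, hβ]
        show α i a₁ * α i w * γ i s - γ i c * (α i u₁ * α i w) = 0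
        rw [← e1, ← e2]
        ring
      obtain ⟨⟨z, z'⟩, hz⟩ := IsLocalization.surj (Submonoid.powers t)
        (algebraMap A T (a₁ * w) * algebraMap B T s - algebraMap B T c * algebraMap A T (u₁ * w))
      have hzi : z ∈ q := (hα i z).1 (by rw [← hβ, ← hz, map_mul, h0, zero_mul])
      have := hqP hzi
      rw [Ideal.mem_comap, ← hz] at this
      exact (Ideal.mul_unit_mem_iff_mem _ (IsLocalization.map_units T z')).1 this
    · have hw' : algebraMap A T w ∈ P := hqP (hw q hq hqm)
      simp only [map_mul]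
      exact Ideal.sub_mem _ (Ideal.mul_mem_right _ _ (Ideal.mul_mem_left _ _ hw'))
        (Ideal.mul_mem_left _ _ (Ideal.mul_mem_left _ _ hw'))

end Groth.L21.CurveScheme
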