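import Groth.Agent.L21.CurveScheme.Sep
import Groth.Agent.L23.LqfRep
import Groth.Agent.L23.Epi
import Groth.Agent.L23.SourceReduced

/-!
A point near which a separated space maps quasi-finitely to a separated scheme is schematic.
-/

set_option autoImplicit false
set_option linter.style.haveILetI false

universe u

open CategoryTheory CategoryTheory.Limits AlgebraicGeometry AlgSp TopologicalSpace

set_option backward.isDefEq.respectTransparency.types false
set_option backward.isDefEq.respectTransparency false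

noncomputable section

namespace Groth.L21.CurveScheme

open Groth.L23

variable {S : Scheme.{u}} {X : Sp S}

/-- Two maps from a reduced scheme which factor through a scheme densely open in the source agree. -/
theorem comp_eq_of_dense {U E V L R : Over S} [IsReduced R.left] [L.left.IsSeparated]
    (a : (yon S).obj U ⟶ X) (e : E ⟶ U) [IsOpenImmersion e.left] (hd : DenseRange e.left)
    (j : (yon S).obj V ⟶ X) [Mono j] (ψ : E ⟶ V) (hψ : (yon S).map ψ ≫ j = (yon S).map e ≫ a)
    (h : U ⟶ L) (f : V ⟶ L) (hh : e ≫ h = ψ ≫ f) (t s : R ⟶ U) [Etale t.left] [Etale s.left]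
    (hts : (yon S).map t ≫ a = (yon S).map s ≫ a) : t ≫ h = s ≫ h := by
  let p₁ := pullback.fst t.left e.left
  let p₂ := pullback.fst (p₁ ≫ s.left) e.left
  let R₂ : Over S := Over.mk ((p₂ ≫ p₁) ≫ R.hom)
  let q : R₂ ⟶ R := Over.homMk (p₂ ≫ p₁) rfl
  let e₁ : R₂ ⟶ E := Over.homMk (p₂ ≫ pullback.snd t.left e.left) (by
    show (p₂ ≫ pullback.snd t.left e.left) ≫ E.hom = (p₂ ≫ p₁) ≫ R.hom
    rw [← Over.w e, ← Over.w t, Category.assoc, Category.assoc, ← pullback.condition_assoc])
  let e₂ : R₂ ⟶ E := Over.homMk (pullback.snd (p₁ ≫ s.left) e.left) (by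
    show pullback.snd (p₁ ≫ s.left) e.left ≫ E.hom = (p₂ ≫ p₁) ≫ R.hom
    rw [← Over.w e, ← Over.w s, ← pullback.condition_assoc, Category.assoc, Category.assoc])
  have h₁ : e₁ ≫ e = q ≫ t := Over.OverMorphism.ext (by
    show (p₂ ≫ pullback.snd t.left e.left) ≫ e.left = (p₂ ≫ p₁) ≫ t.left
    rw [Category.assoc, Category.assoc, ← pullback.condition])
  have h₂ : e₂ ≫ e = q ≫ s := Over.OverMorphism.ext (by
    show pullback.snd (p₁ ≫ s.left) e.left ≫ e.left = (p₂ ≫ p₁) ≫ s.left
    rw [← pullback.condition, Category.assoc])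
  have h₃ : e₁ ≫ ψ = e₂ ≫ ψ := (yon S).map_injective ((cancel_mono j).1 (by
    rw [Functor.map_comp, Functor.map_comp, Category.assoc, Category.assoc, hψ, ← Functor.map_comp_assoc,
      ← Functor.map_comp_assoc, h₁, h₂, Functor.map_comp_assoc, Functor.map_comp_assoc, hts]))
  have h₄ : q ≫ t ≫ h = q ≫ s ≫ h := by
    rw [← Category.assoc, ← Category.assoc q, ← h₁, ← h₂, Category.assoc, Category.assoc, hh,
      ← Category.assoc, ← Category.assoc, h₃]
  refine Over.OverMorphism.ext ?_
  have : IsOpenImmersion (p₂ ≫ p₁) := inferInstance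
  have : IsDominant (p₂ ≫ p₁) := by
    refine ⟨?_⟩
    have hr : Set.range (p₂ ≫ p₁) = (t.left ⁻¹' Set.range e.left) ∩ (s.left ⁻¹' Set.range e.left) := by
      rw [Scheme.Hom.comp_base, TopCat.coe_comp, Set.range_comp, IsOpenImmersion.range_pullbackFst,
        TopologicalSpace.Opens.map_coe]
      show p₁ '' ((p₁ ≫ s.left) ⁻¹' Set.range e.left) = _
      have h0 : Set.range p₁ = t.left ⁻¹' Set.range e.left := by
        rw [IsOpenImmersion.range_pullbackFst]; rfl
      rw [← h0]
      ext z
      constructor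
      · rintro ⟨w, hw, rfl⟩; exact ⟨⟨w, rfl⟩, hw⟩
      · rintro ⟨⟨w, rfl⟩, hw⟩; exact ⟨w, hw, rfl⟩
    show Dense (Set.range (p₂ ≫ p₁))
    rw [hr]
    exact (hd.preimage t.left.isOpenMap).inter_of_isOpen_left (hd.preimage s.left.isOpenMap)
      (e.left.isOpenEmbedding.isOpen_range.preimage t.left.continuous)
  exact ext_of_isDominant (p₂ ≫ p₁) (congrArg (fun φ : R₂ ⟶ L => φ.left) h₄)

variable {k : Type u} [Field k] {t₀ : Spec (CommRingCat.of k) ⟶ S} {π : X ⟶ (yon S).obj (Over.mk t₀)}

/-- A function on a chart which agrees with a function on the space and is quasi-finite at a point gives a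
schematic point. -/
theorem schemePt_of_fun (hX : IsAlgSpace X) (hsep : IsSeparatedMor π) {U E V L : Over S}
    [IsReduced U.left] [L.left.IsSeparated] {a : (yon S).obj U ⟶ X} (ha : RepWith @Etale a)
    (e : E ⟶ U) [IsOpenImmersion e.left] (hd : DenseRange e.left) (j : (yon S).obj V ⟶ X) [Mono j]
    (ψ : E ⟶ V) (hψ : (yon S).map ψ ≫ j = (yon S).map e ≫ a) (h : U ⟶ L) (f : V ⟶ L) (hh : e ≫ h = ψ ≫ f)
    (l : L ⟶ Over.mk t₀) (hl : h ≫ l = struct π a) (u : U.left) (hu : QFL.qfAt U.left L.left h.left u) :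
    SL.SchemePt (Points.ofPt a u) := by
  obtain ⟨Z, i, b, hZ, hi, hbe, hbs, hbi, -⟩ := Qs.exists_openSub_chart hX ha
  have := mono_of_repWith_openImmersion hi
  have := epi_of_repWith b hbe hbs
  obtain ⟨R, t, s, sR⟩ := exists_isPullback_of_representable (hZ.representable_from_yon b) b
  have : Etale s.left := repWith_prop hbe sR
  have : Etale t.left := repWith_prop hbe sR.flip
  have : IsReduced R.left := Groth.L23.isReduced_of_etale t.left
  have hth : t ≫ h = s ≫ h := comp_eq_of_dense a e hd j ψ hψ h f hh t s (by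
    rw [← hbi, ← Category.assoc, ← Category.assoc, sR.w])
  obtain ⟨hc⟩ := nonempty_isColimit_cofork b sR
  obtain ⟨g, hg⟩ : ∃ g : Z ⟶ (yon S).obj L, b ≫ g = (yon S).map h :=
    ⟨hc.desc (Cofork.ofπ ((yon S).map h) (by rw [← Functor.map_comp, ← Functor.map_comp, hth])),
      hc.fac _ WalkingParallelPair.one⟩
  have hgl : g ≫ (yon S).map l = i ≫ π := by
    rw [← cancel_epi b, ← Category.assoc, hg, ← Functor.map_comp, hl, yon_struct, ← hbi, Category.assoc]
  let O : TopologicalSpace.Opens (Points Z) := ⟨_, QFL.isOpen_qfSet g⟩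
  have hO : Points.ofPt b u ∈ O :=
    ⟨U, L, b, 𝟙 _, h, u, hbe, AlgSp.repWith_id _ _, by rw [Category.comp_id, hg], rfl, hu⟩
  have hj := repWith_openSubι O
  have := mono_of_repWith_openImmersion hj
  have hW := isAlgSpace_openSub O hZ
  have hje : RepWith @Etale (openSubι O) :=
    repWith_mono (fun φ (_ : IsOpenImmersion φ) => inferInstanceAs (Etale φ)) hj
  have hq : LocP (@LocallyQuasiFinite ⊓ @LocallyOfFiniteType) (openSubι O ≫ g) :=
    QFL.locP_of_hasAtMor fun x => (QFL.hasAtMor_comp_iff hW (IsAlgSpace.yon_obj L) hje x).2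
      ((range_openSubι O).le ⟨x, rfl⟩)
  have hsepι : ∀ {F G : Sp S} (m : F ⟶ G) [Mono m], IsSeparatedMor m := fun m _ =>
    repWith_of_isIso (P := (@IsClosedImmersion : MorphismProperty Scheme.{u})) (pullback.diagonal m)
  have hs : IsSeparatedMor (openSubι O ≫ g) := repWith_diagonal_of_comp (g := (yon S).map l) (by
    have := separated_comp (separated_comp (hsepι (openSubι O)) (hsepι i)) hsep
    have e : (openSubι O ≫ i) ≫ π = (openSubι O ≫ g) ≫ (yon S).map l := by
      rw [Category.assoc, Category.assoc, hgl]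
    have h' : ∀ m, (openSubι O ≫ i) ≫ π = m → RepWith @IsClosedImmersion (pullback.diagonal m) := by
      rintro _ rfl
      exact this
    exact h' _ e)
  obtain ⟨G, θ, hθ⟩ := Lqf.exists_scheme_of_lqf hW (openSubι O ≫ g) hq hs
  obtain ⟨y, hy⟩ := (range_openSubι O).ge (show Points.ofPt b u ∈ (O : Set (Points Z)) from hO)
  obtain ⟨w, hw⟩ := (Points.schemeEquiv G).surjective (Points.map (inv θ) y)
  have h1 : SL.SchemePt (Points.ofPt b u) := by
    refine ⟨G, θ ≫ openSubι O, w, repWith_comp
      (repWith_of_isIso (P := (@IsOpenImmersion : MorphismProperty Scheme.{u})) θ) hj, ?_⟩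
    rw [Points.ofPt_eq_map_ofScheme, show Points.ofScheme G w = _ from hw, ← Points.map_comp,
      IsIso.inv_hom_id_assoc, hy]
  have h2 := h1.map hi
  rwa [Points.map_ofPt, hbi] at h2

end Groth.L21.CurveScheme
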