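import Groth.Agent.L21.CurveScheme.Main
import Groth.Agent.L21.OpenSt.Locus
import Groth.Agent.L23.LocalDimEtale
import Groth.Agent.L23.FibreDimBC
import Groth.Agent.L07.FibreDimSemi
import Groth.Agent.L06.LocalDimFlat
import Mathlib.FieldTheory.IsAlgClosed.Basic

/-!
The geometric fibres of a family of curves are schemes.
-/

set_option autoImplicit false
set_option linter.style.haveILetI false

universe u

open CategoryTheory CategoryTheory.Limits AlgebraicGeometry AlgSp TopologicalSpace

set_option backward.isDefEq.respectTransparency.types false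
set_option backward.isDefEq.respectTransparency false

noncomputable section

namespace Groth.L21.CurveScheme

open Groth.L23 Groth.L21.OpenSt

/-- Fibre dimension at most one. -/
def dimLE : PtCond.{u} := fun _ _ g x => FlatMor.fibreDimAt g x ≤ ((1 : ℕ) : WithBot ℕ∞)

theorem dimLE_good : dimLE.{u}.Good where
  source e g _ _ _ x := by simp only [dimLE, Groth.L23.fibreDimAt_etale_comp e g x]
  target g φ _ _ _ x := by simp only [dimLE, Groth.L23.fibreDimAt_comp_etale g φ x]
  baseChange := fun {_ _ _ _ f b f' b'} _ _ sq x => by simp only [dimLE, Groth.L23.fibreDimAt_of_isPullback sq x]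
  isOpen g _ _ := Groth.L07.FibreDim.isOpen_fibreDimAt_le g 1

/-- A scheme over a field with fibre dimension at most one everywhere has dimension at most one. -/
theorem topologicalKrullDim_le_one {k : Type u} [Field k] {W : Scheme.{u}} (g : W ⟶ Spec (CommRingCat.of k))
    [LocallyOfFiniteType g] (h : ∀ w, dimLE g w) : topologicalKrullDim W ≤ 1 := by
  haveI := LocallyOfFiniteType.isLocallyNoetherian g
  have h1 := Groth.L06.LocalDimFlat.dim_le_of_stalk (⊤ : W.Opens) 1 fun z _ => by
    obtain ⟨U, hzU, hU⟩ := (Groth.L07.FibreDim.fibreDimAt_le_iff g z _).1 (h z)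
    have hall : (U : Set W) ∩ g ⁻¹' {g z} = (U : Set W) :=
      Set.inter_eq_left.2 fun w _ => Subsingleton.elim (α := PrimeSpectrum k) _ _
    rw [hall] at hU
    exact (Groth.L06.LocalDimFlat.stalk_le_dim U z hzU).trans hU
  refine le_trans ?_ h1
  exact le_of_eq (Homeomorph.Set.univ W).isHomeomorph.topologicalKrullDim_eq.symm

variable {S : Scheme.{u}} {n : ℕ}

/-- The geometric fibres of a family of curves are schemes. -/
theorem exists_geomFibre (A : CurvSt.SpFamObj S n) (hA : CurvSt.IsCurveFam A) (Ω : Type u) [Field Ω] [IsAlgClosed Ω]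
    (t : Spec (CommRingCat.of Ω) ⟶ A.base.left) :
    ∃ (X' : Scheme.{u}) (q : X' ⟶ Spec (CommRingCat.of Ω)) (i : (AlgSp.yon S).obj (A.ptOver (q ≫ t)) ⟶ A.X),
      IsPullback i ((AlgSp.yon S).map (A.fibHom t q)) A.f ((AlgSp.yon S).map (A.ptHom t)) := by
  obtain ⟨hX, hflat, hprop, hfp, hdim⟩ := hA
  obtain ⟨At⟩ := exists_atl (f := A.f) hX
  have sq := IsPullback.of_hasPullback A.f ((AlgSp.yon S).map (A.ptHom t))
  let P := pullback A.f ((AlgSp.yon S).map (A.ptHom t))
  have hP : IsAlgSpace P := isAlgSpace_of_isPullback (IsAlgSpace.yon_obj A.base).diag hX (IsAlgSpace.yon_obj _) sq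
  have hlft : LocP @LocallyOfFiniteType A.f := fun U V a b h ha hb w => by
    have := hfp.1 a b h ha hb w
    infer_instance
  have hlft' : LocP @LocallyOfFiniteType (pullback.snd A.f ((AlgSp.yon S).map (A.ptHom t))) :=
    locP_of_isPullback etLocal_lft hX (IsAlgSpace.yon_obj _) (IsAlgSpace.yon_obj _) sq hlft
  obtain ⟨A', pr, sqS⟩ := At.exists_baseChange sq
  haveI := At.flat hflat
  haveI := At.lfp hfp.1
  have hall := (forall_hasAtMor_iff dimLE_good hflat hfp.1 At).1 hdim
  have h1 : ∀ w, dimLE A'.g.left w := fun w => (dimLE_good.baseChange sqS w).2 (hall _)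
  haveI : LocallyOfFiniteType A'.g.left :=
    hlft' A'.a (𝟙 _) A'.g A'.etale (AlgSp.repWith_id _ _) (by rw [A'.w, Category.comp_id])
  have hdimW : topologicalKrullDim A'.W.left ≤ 1 := topologicalKrullDim_le_one (k := Ω) A'.g.left h1
  obtain ⟨G, θ, hθ⟩ := exists_scheme (t₀ := t ≫ A.base.hom) (π := pullback.snd A.f ((AlgSp.yon S).map (A.ptHom t)))
    hP (separated_of_isPullback sq hprop.1) hlft' A'.etale A'.surj hdimW
  obtain ⟨h, hh⟩ := (AlgSp.yon S).map_surjective (θ ≫ pullback.snd A.f ((AlgSp.yon S).map (A.ptHom t)))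
  let q : G.left ⟶ Spec (CommRingCat.of Ω) := h.left
  let e : A.ptOver (q ≫ t) ≅ G := Over.isoMk (Iso.refl _) (by
    show 𝟙 _ ≫ G.hom = (q ≫ t) ≫ A.base.hom
    rw [Category.id_comp, Category.assoc, ← Over.w h]
    rfl)
  have he : e.hom ≫ h = A.fibHom t q := Over.OverMorphism.ext (Category.id_comp _)
  refine ⟨G.left, q, (AlgSp.yon S).map e.hom ≫ θ ≫ pullback.fst _ _, ?_⟩
  refine IsPullback.of_iso sq ((asIso θ).symm ≪≫ (AlgSp.yon S).mapIso e.symm) (Iso.refl _) (Iso.refl _) (Iso.refl _)
    ?_ ?_ ?_ ?_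
  · simp only [Iso.trans_hom, Functor.mapIso_hom, Iso.symm_hom, asIso_inv, Iso.refl_hom, Category.comp_id,
      Category.assoc]
    rw [← Functor.map_comp_assoc, e.inv_hom_id, CategoryTheory.Functor.map_id, Category.id_comp,
      IsIso.inv_hom_id_assoc]
  · simp only [Iso.trans_hom, Functor.mapIso_hom, Iso.symm_hom, asIso_inv, Iso.refl_hom, Category.comp_id,
      Category.assoc]
    rw [← Functor.map_comp, ← he, Iso.inv_hom_id_assoc, hh, IsIso.inv_hom_id_assoc]
  · simp
  · simp

end Groth.L21.CurveScheme
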