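import Groth.Agent.L21.CurveScheme.Point
import Groth.Agent.L23.RedInd
import Groth.Agent.L23.ThickScheme
import Groth.Agent.L23.LocP

/-!
A separated algebraic space of dimension at most one, locally of finite type over an algebraically
closed (or just infinite) field, is a scheme.
-/

set_option autoImplicit false
set_option linter.style.haveILetI false

universe u

open CategoryTheory CategoryTheory.Limits AlgebraicGeometry AlgSp TopologicalSpace

set_option backward.isDefEq.respectTransparency.types false
set_option backward.isDefEq.respectTransparency false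

noncomputable section

namespace Groth.L21.CurveScheme

open Groth.L23

variable {S : Scheme.{u}} {k : Type u} [Field k] [Infinite k] {t₀ : Spec (CommRingCat.of k) ⟶ S} {X : Sp S}
  {π : X ⟶ (yon S).obj (Over.mk t₀)}

/-- The reduced case. -/
theorem exists_scheme_of_reduced (hX : IsAlgSpace X) (hsep : IsSeparatedMor π)
    (hlft : LocP @LocallyOfFiniteType π) (hred : IsReducedSp X) {U₀ : Over S} {a₀ : (yon S).obj U₀ ⟶ X}
    (ha₀ : RepWith @Etale a₀) (ha₀s : RepWith @Surjective a₀) (hdim : topologicalKrullDim U₀.left ≤ 1) :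
    ∃ (G : Over S) (θ : (yon S).obj G ⟶ X), IsIso θ := by
  have hred' : ∀ (U : Over S) (a : (yon S).obj U ⟶ X), RepWith @Etale a → IsReduced U.left := by
    intro U a ha
    obtain ⟨V, b, hb, hbs, hV⟩ := hred
    haveI : ∀ u, _root_.IsReduced (U.left.presheaf.stalk u) := fun u => by
      obtain ⟨v, hv⟩ := surjective_ofPt hbs (Points.ofPt a u)
      exact hasAt_reduced_stalk hX ha u ⟨V, b, v, hb, hv, inferInstance⟩
    exact isReduced_of_isReduced_stalk _
  refine OpenCharts.exists_scheme_of_open_charts hX fun x => ?_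
  obtain ⟨u₀, rfl⟩ := surjective_ofPt ha₀s x
  obtain ⟨_, ⟨W, hW, rfl⟩, huW, -⟩ :=
    U₀.left.isBasis_affineOpens.exists_subset_of_mem_open (Set.mem_univ u₀) isOpen_univ
  change U₀.left.Opens at W
  let A : CommRingCat.{u} := Γ(U₀.left, W)
  let g : (Over.mk (hW.fromSpec ≫ U₀.hom) : Over S) ⟶ U₀ := Over.homMk hW.fromSpec rfl
  let a := (yon S).map g ≫ a₀
  have ha : RepWith @Etale a := repWith_comp (repWith_map (show Etale hW.fromSpec from inferInstance)) ha₀
  haveI : Ring.KrullDimLE 1 A := Ring.krullDimLE_iff.2 (by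
    rw [← PrimeSpectrum.topologicalKrullDim_eq_ringKrullDim, Nat.cast_one]
    exact hW.fromSpec.isOpenEmbedding.isInducing.topologicalKrullDim_le.trans hdim)
  let w : Spec A := hW.primeIdealOf ⟨u₀, huW⟩
  obtain ⟨M, hM, hwM⟩ := Ideal.exists_le_maximal w.asIdeal w.isPrime.ne_top
  let m : Spec A := ⟨M, hM.isPrime⟩
  have hwm : w ⤳ m := (PrimeSpectrum.le_iff_specializes w m).1 hwM
  have h1 := schemePt_of_spec (π := π) hX hsep hlft hred' A _ a ha m hM
  have h2 : Points.ofPt a w ∈ {x : Points X | SL.SchemePt x} :=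
    (hwm.map (Points.continuous_ofPt a)).mem_open SL.isOpen_schemePt h1
  have e : Points.ofPt a w = Points.ofPt a₀ u₀ := by
    rw [ofPt_comp]
    exact congrArg (Points.ofPt a₀) (hW.fromSpec_primeIdealOf ⟨u₀, huW⟩)
  rwa [e] at h2

/-- A separated algebraic space of dimension at most one over an infinite field is a scheme. -/
theorem exists_scheme (hX : IsAlgSpace X) (hsep : IsSeparatedMor π) (hlft : LocP @LocallyOfFiniteType π)
    {U₀ : Over S} {a₀ : (yon S).obj U₀ ⟶ X} (ha₀ : RepWith @Etale a₀) (ha₀s : RepWith @Surjective a₀)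
    (hdim : topologicalKrullDim U₀.left ≤ 1) :
    ∃ (G : Over S) (θ : (yon S).obj G ⟶ X), IsIso θ := by
  obtain ⟨Z, hZ, i, hi, hrange, hZred⟩ := Groth.L23.exists_isRedInduced hX (T := Set.univ) isClosed_univ
  obtain ⟨P, p, q, sq⟩ : ∃ (P : Over S) (p : (yon S).obj P ⟶ Z) (q : P ⟶ U₀), IsPullback p ((yon S).map q) i a₀ :=
    ⟨_, _, _, hi.1.isPullback a₀⟩
  haveI : IsClosedImmersion q.left := repWith_prop hi sq
  have hp : RepWith @Etale p := repWith_of_isPullback sq.flip ha₀
  have hps : RepWith @Surjective p := repWith_of_isPullback sq.flip ha₀s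
  have := Groth.L23.mono_of_closedImmersion hi
  have hisep : IsSeparatedMor i :=
    repWith_of_isIso (P := (@IsClosedImmersion : MorphismProperty Scheme.{u})) (pullback.diagonal i)
  have hilft : LocP @LocallyOfFiniteType i := locP_of_repWith etLocal_lft
    (repWith_mono (fun φ (_ : IsClosedImmersion φ) => inferInstanceAs (LocallyOfFiniteType φ)) hi)
  obtain ⟨G, θ, hθ⟩ := exists_scheme_of_reduced (π := i ≫ π) hZ (separated_comp hisep hsep)
    (locP_comp etLocal_lft hZ hX (IsAlgSpace.yon_obj _) hilft hlft) hZred hp hps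
    (q.left.isClosedEmbedding.isInducing.topologicalKrullDim_le.trans hdim)
  refine exists_scheme_of_thickening hX (i := θ ≫ i) ?_
  have hsurj : RepWith @Surjective i := repWith_surjective_of_map hi.1 (by
    intro x
    exact hrange.ge (Set.mem_univ x))
  have hit : RepWith thick i := repWith_of_snd hi.1 fun _ g => ⟨repWith_snd hi g, repWith_snd hsurj g⟩
  exact MorphismProperty.RespectsIso.precomp (RepWith thick) _ _ hit

end Groth.L21.CurveScheme
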