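import Groth.Agent.L21.CurveScheme.Chart
import Groth.Agent.L21.CurveScheme.Descend
import Groth.Agent.L21.CurveScheme.Base
import Groth.Agent.L23.ReducedStalk
import Mathlib.RingTheory.RingHom.Etale
import Mathlib.RingTheory.Etale.QuasiFinite
import Mathlib.FieldTheory.IsAlgClosed.Basic

/-!
Closed points of a reduced curve over an infinite field are schematic.
-/

set_option autoImplicit false
set_option linter.style.haveILetI false

universe u

open CategoryTheory CategoryTheory.Limits AlgebraicGeometry AlgSp TopologicalSpace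

set_option backward.isDefEq.respectTransparency.types false
set_option backward.isDefEq.respectTransparency false

noncomputable section

namespace Groth.L21.CurveScheme

open Groth.L23

variable {S : Scheme.{u}} {k : Type u} [Field k] {t₀ : Spec (CommRingCat.of k) ⟶ S} {X : Sp S}
  {π : X ⟶ (yon S).obj (Over.mk t₀)}

/-- The affine line over the point. -/
abbrev line (t₀ : Spec (CommRingCat.of k) ⟶ S) : Over S :=
  Over.mk (Spec.map (CommRingCat.ofHom (Polynomial.C : k →+* Polynomial k)) ≫ t₀)

/-- The projection of the line to the point. -/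
abbrev lineProj (t₀ : Spec (CommRingCat.of k) ⟶ S) : line t₀ ⟶ Over.mk t₀ :=
  Over.homMk (Spec.map (CommRingCat.ofHom (Polynomial.C : k →+* Polynomial k))) rfl

/-- The map to the line given by an element. -/
theorem exists_toLine {A : CommRingCat.{u}} {σ : Spec A ⟶ S} (v : (Over.mk σ : Over S) ⟶ Over.mk t₀) (a : A) :
    ∃ h : (Over.mk σ : Over S) ⟶ line t₀, h ≫ lineProj t₀ = v ∧
      h.left = Spec.map (CommRingCat.ofHom (Polynomial.eval₂RingHom (Spec.preimage v.left).hom a)) := by
  have e : Spec.map (CommRingCat.ofHom (Polynomial.eval₂RingHom (Spec.preimage v.left).hom a)) ≫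
      Spec.map (CommRingCat.ofHom (Polynomial.C : k →+* Polynomial k)) = v.left := by
    rw [← Spec.map_comp]
    refine (congrArg Spec.map ?_).trans (Spec.map_preimage v.left)
    ext x
    exact Polynomial.eval₂_C _ _
  refine ⟨Over.homMk (Spec.map (CommRingCat.ofHom (Polynomial.eval₂RingHom (Spec.preimage v.left).hom a))) ?_,
    Over.OverMorphism.ext e, rfl⟩
  show _ ≫ _ ≫ t₀ = σ
  rw [← Category.assoc, e]
  exact Over.w v

/-- An open set containing all minimal primes is dense. -/
theorem dense_of_minimalPrimes {A : CommRingCat.{u}} (O : Set (Spec A))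
    (h : ∀ x : Spec A, x.asIdeal ∈ minimalPrimes A → x ∈ O) : Dense O := by
  intro x
  obtain ⟨q, hq, hqx⟩ := Ideal.exists_minimalPrimes_le (I := ⊥) (J := x.asIdeal) bot_le
  exact ((PrimeSpectrum.le_iff_specializes ⟨q, hq.1.1⟩ x).1 hqx).mem_closed isClosed_closure
    (subset_closure (h ⟨q, hq.1.1⟩ hq))

/-- A map to the line vanishing at a point and on no component is quasi-finite there. -/
theorem qfAt_toLine {A : CommRingCat.{u}} [IsNoetherianRing A] [Ring.KrullDimLE 1 A]
    (κ : CommRingCat.of (Polynomial k) ⟶ A) [LocallyOfFiniteType (Spec.map κ)] (m : Spec A)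
    (ha : κ Polynomial.X ∈ m.asIdeal) (hmin : ∀ p ∈ minimalPrimes A, κ Polynomial.X ∉ p) :
    QFL.qfAt (Spec A) (Spec (CommRingCat.of (Polynomial k))) (Spec.map κ) m := by
  rw [QFL.qfAt_iff_quasiFiniteAt, Scheme.Hom.quasiFiniteAt_iff_isOpen_singleton_asFiber]
  let Φ : Set (Spec A) := Spec.map κ ⁻¹' {Spec.map κ m}
  have hmem : ∀ P ∈ Φ, κ Polynomial.X ∈ P.asIdeal := fun P hP => by
    have h1 : (Polynomial.X : Polynomial k) ∈ (Spec.map κ m).asIdeal := ha
    have h2 : Spec.map κ P = Spec.map κ m := hP
    rw [← h2] at h1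
    exact h1
  have hmax : ∀ P ∈ Φ, P.asIdeal.IsMaximal := fun P hP => by
    rcases Ring.krullDimLE_one_iff.1 inferInstance P.asIdeal P.isPrime with h | h
    · exact absurd (hmem P hP) (hmin _ h)
    · exact h
  have hfin : Φ.Finite := by
    refine Set.Finite.of_finite_image
      ((Ideal.finite_minimalPrimes_of_isNoetherianRing A (Ideal.span {κ Polynomial.X})).subset ?_)
      (fun P _ Q _ h => PrimeSpectrum.ext h)
    rintro _ ⟨P, hP, rfl⟩
    obtain ⟨q, hq, hqP⟩ := Ideal.exists_minimalPrimes_le (I := Ideal.span {κ Polynomial.X}) (J := P.asIdeal)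
      ((Ideal.span_singleton_le_iff_mem _).2 (hmem P hP))
    rcases Ring.krullDimLE_one_iff.1 inferInstance q hq.1.1 with h | h
    · exact absurd (hq.1.2 (Ideal.mem_span_singleton_self _)) (hmin _ h)
    · exact (h.eq_of_le P.isPrime.ne_top hqP) ▸ hq
  have : T1Space Φ := ⟨fun P => by
    have := ((PrimeSpectrum.isClosed_singleton_iff_isMaximal P.1).2 (hmax P.1 P.2)).preimage
      (continuous_subtype_val : Continuous (Subtype.val : Φ → Spec A))
    convert this using 1
    ext Q
    simp [Subtype.ext_iff]⟩
  have : Finite Φ := hfin.to_subtype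
  rw [← ((Spec.map κ).fiberHomeo (Spec.map κ m)).isOpen_image]
  exact isOpen_discrete _

/-- A nonzerodivisor below a flat dense basic open stays one on the chart. -/
theorem notMem_of_nonZeroDivisor {A B T : Type u} [CommRing A] [CommRing B] [CommRing T] [Algebra A T]
    [Algebra B T] [Module.Flat B T] (t : A) [IsLocalization.Away t T] {p : Ideal A} (hp : p ∈ minimalPrimes A)
    (ht : t ∉ p) (s : nonZeroDivisors B) (t' : A) (n : Submonoid.powers t)
    (h : algebraMap B T s * algebraMap A T n = algebraMap A T t') : t' ∉ p := by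
  intro h1
  have hsT : algebraMap B T (s : B) ∈ nonZeroDivisors T := by
    have hinj : Function.Injective (fun y : T => (s : B) • y) :=
      Module.Flat.isSMulRegular_of_nonZeroDivisors (M := T) s.2
    rw [mem_nonZeroDivisors_iff_right]
    intro y hy
    exact hinj (by simp only [smul_zero]; rw [Algebra.smul_def, mul_comm]; exact hy)
  haveI : p.IsPrime := hp.1.1
  have hd' : Disjoint (Submonoid.powers t : Set A) p := (Ideal.disjoint_powers_iff_notMem_of_isPrime t).2 ht
  have hqT : p.map (algebraMap A T) ∈ minimalPrimes T := by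
    refine ⟨⟨IsLocalization.isPrime_of_isPrime_disjoint _ T p hp.1.1 hd', bot_le⟩, fun Q hQ hQq => ?_⟩
    have h2 := hp.2 ⟨hQ.1.comap (algebraMap A T), bot_le⟩
      ((Ideal.comap_mono hQq).trans (IsLocalization.under_map_of_isPrime_disjoint _ T hp.1.1 hd').le)
    rw [← IsLocalization.map_under (Submonoid.powers t) T Q]
    exact Ideal.map_mono h2
  refine (Set.disjoint_left.1 (Ideal.disjoint_nonZeroDivisors_of_mem_minimalPrimes hqT) ?_) hsT
  exact (Ideal.mul_unit_mem_iff_mem _ (IsLocalization.map_units T n)).1 (h ▸ Ideal.mem_map_of_mem _ h1)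

/-- Minimal primes of a localisation lie over minimal primes. -/
theorem comap_mem_minimalPrimes_away {A A' : Type u} [CommRing A] [CommRing A'] [Algebra A A'] (u : A)
    [IsLocalization.Away u A'] {p : Ideal A'} (hp : p ∈ minimalPrimes A') :
    p.comap (algebraMap A A') ∈ minimalPrimes A := by
  refine ⟨⟨hp.1.1.comap _, bot_le⟩, fun Q hQ hQp => ?_⟩
  have hd : Disjoint (Submonoid.powers u : Set A) Q := Set.disjoint_left.2 fun x hx hxQ =>
    hp.1.1.ne_top (Ideal.eq_top_of_isUnit_mem _ (hQp hxQ) (IsLocalization.map_units A' (⟨x, hx⟩ : Submonoid.powers u)))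
  have h1 := hp.2 ⟨IsLocalization.isPrime_of_isPrime_disjoint (Submonoid.powers u) A' Q hQ.1 hd, bot_le⟩
    (Ideal.map_le_iff_le_comap.2 hQp)
  exact (Ideal.comap_mono h1).trans (IsLocalization.under_map_of_isPrime_disjoint _ A' hQ.1 hd).le

variable [Infinite k]

/-- Closed points of affine reduced charts are schematic. -/
theorem schemePt_of_spec (hX : IsAlgSpace X) (hsep : IsSeparatedMor π) (hlft : LocP @LocallyOfFiniteType π)
    (hred : ∀ (U : Over S) (a : (yon S).obj U ⟶ X), RepWith @Etale a → IsReduced U.left)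
    (A : CommRingCat.{u}) (σ : Spec A ⟶ S) (a : (yon S).obj (Over.mk σ) ⟶ X) (ha : RepWith @Etale a)
    [Ring.KrullDimLE 1 A] (m : Spec A) (hm : m.asIdeal.IsMaximal) :
    SL.SchemePt (Points.ofPt a m) := by
  classical
  let U : Over S := Over.mk σ
  have hv := locallyOfFiniteType_struct hlft ha
  let v : CommRingCat.of k ⟶ A := Spec.preimage (struct π a).left
  letI : Algebra k A := v.hom.toAlgebra
  haveI : Algebra.FiniteType k A := by
    have h := hv
    rw [← Spec.map_preimage (struct π a).left] at h
    exact (HasRingHomProperty.Spec_iff (P := @LocallyOfFiniteType)).1 h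
  haveI : IsNoetherianRing A := Algebra.FiniteType.isNoetherianRing k A
  haveI : IsReduced (Spec A) := hred U a ha
  haveI : _root_.IsReduced A := (affine_isReduced_iff A).1 inferInstance
  have hqs : IsQuasiSeparatedSp X := isQuasiSeparatedSp hX hsep
  have hgen : ∀ η : Spec A, η.asIdeal ∈ minimalPrimes A → SL.SchemePt (Points.ofPt a η) := fun η hη =>
    SL.schemePt_qs hX hqs ((Pt.hasAt_stalkDim_iff hX ha η (fun d => d = 0)).2 (by
      show ringKrullDim _ = 0
      rw [ringKrullDim_stalk_eq_coheight, WithBot.coe_eq_zero, Order.coheight_eq_zero]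
      intro w hw
      exact ((mem_minimalPrimes_iff η).1 hη w hw).symm ▸ le_rfl))
  by_cases hmm : m.asIdeal ∈ minimalPrimes A
  · exact hgen m hmm
  obtain ⟨t, B, τB, j, ψ, ht, hj, hψe, hψj⟩ := exists_base hX hsep A σ a ha hgen
  let T := Localization.Away t
  let T' : Over S := Over.mk (Spec.map (CommRingCat.ofHom (algebraMap A T)) ≫ σ)
  let ιT : T' ⟶ U := Over.homMk (Spec.map (CommRingCat.ofHom (algebraMap A T))) rfl
  let VB : Over S := Over.mk τB
  let ψ₀ : T'.left ⟶ Spec B := ψ.left
  have := mono_of_repWith_openImmersion hj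
  have hje : RepWith @Etale j :=
    repWith_mono (fun φ (_ : IsOpenImmersion φ) => inferInstanceAs (Etale φ)) hj
  let φ : B ⟶ CommRingCat.of T := Spec.preimage ψ₀
  have hφ : φ.hom.Etale := by
    have : Etale (Spec.map φ) := by rw [Spec.map_preimage]; exact hψe
    exact (HasRingHomProperty.Spec_iff (P := @Etale)).1 this
  -- algebra structures
  let w : CommRingCat.of k ⟶ B := Spec.preimage (struct π j).left
  letI : Algebra k B := w.hom.toAlgebra
  haveI : Algebra.FiniteType k B := by
    have h := locallyOfFiniteType_struct hlft hje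
    rw [← Spec.map_preimage (struct π j).left] at h
    exact (HasRingHomProperty.Spec_iff (P := @LocallyOfFiniteType)).1 h
  haveI : IsNoetherianRing B := Algebra.FiniteType.isNoetherianRing k B
  haveI : IsReduced (Spec B) := hred VB j hje
  haveI : _root_.IsReduced B := (affine_isReduced_iff B).1 inferInstance
  letI : Algebra B T := φ.hom.toAlgebra
  haveI : Algebra.Etale B T := RingHom.etale_algebraMap.1 hφ
  have hwv : w ≫ φ = v ≫ CommRingCat.ofHom (algebraMap A T) := Spec.map_injective (by
    have := congrArg (fun m : T' ⟶ Over.mk t₀ => m.left)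
      ((struct_comp ψ j).symm.trans ((congrArg (struct π) hψj).trans (struct_comp ιT a)))
    rw [Spec.map_comp, Spec.map_comp, Spec.map_preimage, Spec.map_preimage, Spec.map_preimage]
    exact this)
  haveI : IsScalarTower k B T := IsScalarTower.of_algebraMap_eq fun c => by
    rw [IsScalarTower.algebraMap_apply k A T]
    exact (congrArg (fun r : CommRingCat.of k ⟶ CommRingCat.of T => r c) hwv).symm
  haveI : m.asIdeal.IsMaximal := hm
  obtain ⟨s, c, a₁, u, hum, ham, hamin, heq⟩ :=
    exists_fun_eq (k := k) (A := A) (B := B) (T := T) t ht m.asIdeal hmm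
  -- the chart and the base
  let A' := Localization.Away u
  let B' := Localization.Away (s : B)
  obtain ⟨⟨t', n⟩, ht'⟩ := IsLocalization.surj (Submonoid.powers t) (algebraMap B T s)
  let e₀ : A := t * t'
  let E := Localization.Away (algebraMap A A' e₀)
  let α : A →+* E := (algebraMap A' E).comp (algebraMap A A')
  have hαe : IsUnit (α e₀) := IsLocalization.Away.algebraMap_isUnit (algebraMap A A' e₀)
  have hαt : IsUnit (α t) := isUnit_of_mul_isUnit_left (by rw [← map_mul]; exact hαe)
  let β : T →+* E := IsLocalization.Away.lift t hαt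
  have hβ : ∀ x, β (algebraMap A T x) = α x := fun x => IsLocalization.Away.lift_eq t hαt x
  have hβs : IsUnit (β (algebraMap B T s)) := by
    have h : β (algebraMap B T s) * α n = α t' := by
      rw [← hβ, ← map_mul, ← hβ]; exact congrArg β ht'
    exact isUnit_of_mul_isUnit_left (by rw [h]; exact isUnit_of_mul_isUnit_right (by rw [← map_mul]; exact hαe))
  let γ : B' →+* E := IsLocalization.Away.lift (s : B) (g := β.comp (algebraMap B T)) hβs
  have hγ : ∀ x, γ (algebraMap B B' x) = β (algebraMap B T x) := fun x => IsLocalization.Away.lift_eq (S := B') (g := β.comp (algebraMap B T)) (s : B) hβs x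
  let U' : Over S := Over.mk (Spec.map (CommRingCat.ofHom (algebraMap A A')) ≫ σ)
  let ιU : U' ⟶ U := Over.homMk (Spec.map (CommRingCat.ofHom (algebraMap A A'))) rfl
  haveI : IsOpenImmersion ιU.left := IsOpenImmersion.of_isLocalization u
  let V' : Over S := Over.mk (Spec.map (CommRingCat.ofHom (algebraMap B B')) ≫ τB)
  let ιV : V' ⟶ VB := Over.homMk (Spec.map (CommRingCat.ofHom (algebraMap B B'))) rfl
  haveI : IsOpenImmersion ιV.left := IsOpenImmersion.of_isLocalization (s : B)
  let E' : Over S := Over.mk (Spec.map (CommRingCat.ofHom (algebraMap A' E)) ≫ U'.hom)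
  let e : E' ⟶ U' := Over.homMk (Spec.map (CommRingCat.ofHom (algebraMap A' E))) rfl
  haveI : IsOpenImmersion e.left := IsOpenImmersion.of_isLocalization (algebraMap A A' e₀)
  let τ : E' ⟶ T' := Over.homMk (Spec.map (CommRingCat.ofHom β)) (by
    show Spec.map _ ≫ Spec.map _ ≫ σ = Spec.map _ ≫ Spec.map _ ≫ σ
    rw [← Category.assoc, ← Category.assoc, ← Spec.map_comp, ← Spec.map_comp]
    congr 2
    ext x
    exact hβ x)
  have hτ : τ ≫ ιT = e ≫ ιU := Over.OverMorphism.ext (by
    show Spec.map _ ≫ Spec.map _ = Spec.map _ ≫ Spec.map _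
    rw [← Spec.map_comp, ← Spec.map_comp]
    congr 1
    ext x
    exact hβ x)
  have hγ' : Spec.map (CommRingCat.ofHom γ) ≫ ιV.left = τ.left ≫ ψ₀ := by
    show Spec.map _ ≫ Spec.map _ = Spec.map _ ≫ _
    rw [← Spec.map_preimage ψ₀, ← Spec.map_comp, ← Spec.map_comp]
    congr 1
    ext x
    exact hγ x
  let ψ' : E' ⟶ V' := Over.homMk (Spec.map (CommRingCat.ofHom γ)) (by
    show Spec.map (CommRingCat.ofHom γ) ≫ ιV.left ≫ VB.hom = E'.hom
    rw [← Category.assoc, hγ']
    exact (Category.assoc _ _ _).trans ((congrArg (τ.left ≫ ·) (Over.w ψ)).trans (Over.w τ)))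
  let a' : (yon S).obj U' ⟶ X := (yon S).map ιU ≫ a
  have ha' : RepWith @Etale a' := repWith_comp (repWith_map (show Etale ιU.left from inferInstance)) ha
  let j' : (yon S).obj V' ⟶ X := (yon S).map ιV ≫ j
  have hj' : RepWith @IsOpenImmersion j' :=
    repWith_comp (repWith_map (show IsOpenImmersion ιV.left from inferInstance)) hj
  have := mono_of_repWith_openImmersion hj'
  have hψ' : (yon S).map ψ' ≫ j' = (yon S).map e ≫ a' := by
    simp only [j', a', ← Functor.map_comp_assoc]
    rw [show ψ' ≫ ιV = τ ≫ ψ from Over.OverMorphism.ext hγ', ← hτ, Functor.map_comp, Functor.map_comp,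
      Category.assoc, Category.assoc, hψj]
  obtain ⟨uinv, huinv⟩ := (IsLocalization.Away.algebraMap_isUnit (S := A') u).exists_right_inv
  obtain ⟨sinv, hsinv⟩ := (IsLocalization.Away.algebraMap_isUnit (S := B') (s : B)).exists_right_inv
  let a₂ : A' := algebraMap A A' a₁ * uinv
  let c₂ : B' := algebraMap B B' c * sinv
  obtain ⟨h, hh, hh'⟩ := exists_toLine (A := CommRingCat.of A') (struct π a') a₂
  obtain ⟨f, hf, hf'⟩ := exists_toLine (A := CommRingCat.of B') (struct π j') c₂
  have key : algebraMap A' E a₂ = γ c₂ := by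
    have h1 : α u * algebraMap A' E uinv = 1 := by
      show algebraMap A' E (algebraMap A A' u) * _ = 1
      rw [← map_mul, huinv, map_one]
    have h2 : β (algebraMap B T s) * γ sinv = 1 := by rw [← hγ, ← map_mul, hsinv, map_one]
    have h3 : α a₁ * β (algebraMap B T s) = β (algebraMap B T c) * α u := by
      rw [← hβ, ← hβ, ← map_mul, ← map_mul, heq]
    simp only [a₂, c₂, map_mul, hγ]
    show α a₁ * algebraMap A' E uinv = _
    linear_combination (algebraMap A' E uinv * γ sinv) * h3 - (α a₁ * algebraMap A' E uinv) * h2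
      + (β (algebraMap B T c) * γ sinv) * h1
  have hagree : e ≫ h = ψ' ≫ f := by
    refine Over.OverMorphism.ext ?_
    have hvv : Spec.preimage (struct π a').left ≫ CommRingCat.ofHom (algebraMap A' E) =
        Spec.preimage (struct π j').left ≫ CommRingCat.ofHom γ := Spec.map_injective (by
      have := congrArg (fun m : E' ⟶ Over.mk t₀ => m.left)
        ((struct_comp e a').symm.trans ((congrArg (struct π) hψ'.symm).trans (struct_comp ψ' j')))
      rw [Spec.map_comp, Spec.map_comp, Spec.map_preimage, Spec.map_preimage]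
      exact this)
    show Spec.map _ ≫ h.left = Spec.map _ ≫ f.left
    rw [hh', hf', ← Spec.map_comp, ← Spec.map_comp]
    congr 1
    refine CommRingCat.hom_ext (Polynomial.ringHom_ext (fun x => ?_) ?_)
    · show algebraMap A' E (Polynomial.eval₂RingHom _ a₂ (Polynomial.C x)) =
        γ (Polynomial.eval₂RingHom _ c₂ (Polynomial.C x))
      rw [Polynomial.coe_eval₂RingHom, Polynomial.coe_eval₂RingHom, Polynomial.eval₂_C, Polynomial.eval₂_C]
      exact congrArg (fun r : CommRingCat.of k ⟶ CommRingCat.of E => r x) hvv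
    · show algebraMap A' E (Polynomial.eval₂RingHom _ a₂ Polynomial.X) =
        γ (Polynomial.eval₂RingHom _ c₂ Polynomial.X)
      rw [Polynomial.coe_eval₂RingHom, Polynomial.coe_eval₂RingHom, Polynomial.eval₂_X, Polynomial.eval₂_X, key]
  have hmu : m ∈ Set.range ιU.left := by
    show m ∈ Set.range (PrimeSpectrum.comap (algebraMap A A'))
    rw [PrimeSpectrum.localization_away_comap_range A' u]
    exact hum
  obtain ⟨m', hm'⟩ := hmu
  haveI : IsReduced U'.left := hred U' a' ha'
  haveI : IsNoetherianRing A' := IsLocalization.isNoetherianRing (Submonoid.powers u) A' inferInstance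
  have hminA' : ∀ p ∈ minimalPrimes A', p.comap (algebraMap A A') ∈ minimalPrimes A := fun p hp =>
    comap_mem_minimalPrimes_away u hp
  have hd : DenseRange e.left := by
    refine dense_of_minimalPrimes (A := CommRingCat.of A') _ fun x hx => ?_
    show x ∈ Set.range (PrimeSpectrum.comap (algebraMap A' E))
    rw [PrimeSpectrum.localization_away_comap_range E (algebraMap A A' e₀)]
    intro hxe
    have hq := hminA' _ hx
    have he : t * t' ∈ x.asIdeal.comap (algebraMap A A') := hxe
    rcases (hq.1.1.mem_or_mem he) with h1 | h1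
    · exact ht _ hq h1
    · exact notMem_of_nonZeroDivisor (T := T) t hq (ht _ hq) s t' n ht' h1
  haveI : Ring.KrullDimLE 1 A' := Ring.krullDimLE_iff.2 (by
    refine le_trans ?_ (Ring.krullDimLE_iff.1 (inferInstance : Ring.KrullDimLE 1 A))
    exact Order.krullDim_le_of_strictMono (fun q : PrimeSpectrum A' => PrimeSpectrum.comap (algebraMap A A') q)
      (Monotone.strictMono_of_injective (fun q q' h => Ideal.comap_mono h)
        (PrimeSpectrum.localization_comap_injective A' (Submonoid.powers u))))
  haveI : LocallyOfFiniteType h.left := by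
    have h1 : LocallyOfFiniteType (h.left ≫ (lineProj t₀).left) := by
      rw [← Over.comp_left, hh]; exact locallyOfFiniteType_struct hlft ha'
    exact locallyOfFiniteType_of_comp h.left (lineProj t₀).left
  have hqf : QFL.qfAt U'.left (line t₀).left h.left m' := by
    rw [hh']
    have hlf : LocallyOfFiniteType (Spec.map (CommRingCat.ofHom
        (Polynomial.eval₂RingHom (Spec.preimage (struct π a').left).hom a₂))) := by rw [← hh']; infer_instance
    refine qfAt_toLine (A := CommRingCat.of A') _ m' ?_ fun p hp => ?_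
    · show Polynomial.eval₂RingHom _ a₂ Polynomial.X ∈ m'.asIdeal
      rw [Polynomial.coe_eval₂RingHom, Polynomial.eval₂_X]
      refine Ideal.mul_mem_right _ _ ?_
      show a₁ ∈ m'.asIdeal.comap (algebraMap A A')
      have : PrimeSpectrum.comap (algebraMap A A') m' = m := hm'
      exact (congrArg PrimeSpectrum.asIdeal this).ge ham
    · show Polynomial.eval₂RingHom _ a₂ Polynomial.X ∉ p
      rw [Polynomial.coe_eval₂RingHom, Polynomial.eval₂_X]
      intro hp'
      have hu : u ∉ p.comap (algebraMap A A') := fun h =>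
        hp.1.1.ne_top (Ideal.eq_top_of_isUnit_mem _ h (IsLocalization.Away.algebraMap_isUnit u))
      refine hamin _ (hminA' p hp) hu ?_
      show algebraMap A A' a₁ ∈ p
      have := Ideal.mul_mem_right (algebraMap A A' u) p hp'
      rwa [show a₂ * algebraMap A A' u = algebraMap A A' a₁ by
        simp only [a₂]; rw [mul_assoc, mul_comm uinv, huinv, mul_one]] at this
  haveI : (line t₀).left.IsSeparated := inferInstanceAs (Spec (CommRingCat.of (Polynomial k))).IsSeparated
  have := schemePt_of_fun (π := π) hX hsep ha' e hd j' ψ' hψ' h f hagree (lineProj t₀) hh m' hqf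
  rw [show Points.ofPt a' m' = Points.ofPt a m by rw [ofPt_comp, hm']] at this
  exact this

end Groth.L21.CurveScheme
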