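import Groth.Agent.L23.QsTop
import Groth.Agent.L23.SchemeDecent
import Groth.Agent.L23.QFLocus
import Groth.Agent.L23.MorCalc

/-!
Separated morphisms from an algebraic space to a point.
-/

set_option autoImplicit false
set_option linter.style.haveILetI false

universe u

open CategoryTheory CategoryTheory.Limits AlgebraicGeometry AlgSp TopologicalSpace

set_option backward.isDefEq.respectTransparency.types false

noncomputable section

namespace Groth.L21.CurveScheme

open Groth.L23

variable {S : Scheme.{u}} {k : Type u} [Field k] {t₀ : Spec (CommRingCat.of k) ⟶ S} {X : Sp S}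
  {π : X ⟶ (yon S).obj (Over.mk t₀)}

variable (π) in
/-- The structure morphism of a chart. -/
def struct {U : Over S} (a : (yon S).obj U ⟶ X) : U ⟶ Over.mk t₀ := (yon S).preimage (a ≫ π)

theorem yon_struct {U : Over S} (a : (yon S).obj U ⟶ X) : (yon S).map (struct π a) = a ≫ π :=
  (yon S).map_preimage _

theorem struct_comp {U V : Over S} (g : V ⟶ U) (a : (yon S).obj U ⟶ X) :
    struct π ((yon S).map g ≫ a) = g ≫ struct π a :=
  (yon S).map_injective (by rw [Functor.map_comp, yon_struct, yon_struct, Category.assoc])

/-- Fibre products of affine schemes over a separated space over a point are affine. -/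
theorem isAffine_pullback (hX : IsAlgSpace X) (hsep : IsSeparatedMor π) {U V P : Over S}
    [IsAffine U.left] [IsAffine V.left] {a : (yon S).obj U ⟶ X} {b : (yon S).obj V ⟶ X}
    {fst : P ⟶ U} {snd : P ⟶ V} (sq : IsPullback ((yon S).map fst) ((yon S).map snd) a b) :
    IsAffine P.left := by
  let u := (struct π a).left
  let v := (struct π b).left
  let W : Over S := Over.mk (pullback.fst u v ≫ U.hom)
  let p₁ : W ⟶ U := Over.homMk (pullback.fst u v) rfl
  let p₂ : W ⟶ V := Over.homMk (pullback.snd u v) (by
    show pullback.snd u v ≫ V.hom = pullback.fst u v ≫ U.hom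
    rw [← Over.w (struct π a), ← Over.w (struct π b)]
    exact (pullback.condition_assoc _).symm)
  have hW : IsPullback p₁ p₂ (struct π a) (struct π b) :=
    IsPullback.of_map (Over.forget S) (Over.OverMorphism.ext pullback.condition) (IsPullback.of_hasPullback u v)
  have hW' := hW.map (yon S)
  rw [yon_struct, yon_struct] at hW'
  obtain ⟨m, hm₁, hm₂⟩ := exists_lift_yon hW' fst snd (by rw [← Category.assoc, sq.w, Category.assoc])
  let w : (yon S).obj W ⟶ pullback.diagonalObj π :=
    pullback.lift ((yon S).map p₁ ≫ a) ((yon S).map p₂ ≫ b) (by rw [Category.assoc, Category.assoc, hW'.w])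
  have sq' : IsPullback ((yon S).map fst ≫ a) ((yon S).map m) (pullback.diagonal π) w := by
    refine IsPullback.mk' ?_ ?_ ?_
    · apply pullback.hom_ext
      · simp only [Category.assoc, pullback.diagonal_fst, w, pullback.lift_fst, Category.comp_id]
        rw [← Functor.map_comp_assoc, hm₁]
      · simp only [Category.assoc, pullback.diagonal_snd, w, pullback.lift_snd, Category.comp_id]
        rw [← Functor.map_comp_assoc, hm₂, sq.w]
    · intro T φ φ' _ h₂
      refine sq.hom_ext ?_ ?_
      · rw [← hm₁, Functor.map_comp, ← Category.assoc, h₂, Category.assoc]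
      · rw [← hm₂, Functor.map_comp, ← Category.assoc, h₂, Category.assoc]
    · intro T x z e
      have e₁ : x = z ≫ (yon S).map p₁ ≫ a := by
        have h := e =≫ pullback.fst π π
        rw [Category.assoc, Category.assoc, pullback.diagonal_fst, Category.comp_id,
          show w ≫ pullback.fst π π = _ from pullback.lift_fst _ _ _] at h
        exact h
      have e₂ : x = z ≫ (yon S).map p₂ ≫ b := by
        have h := e =≫ pullback.snd π π
        rw [Category.assoc, Category.assoc, pullback.diagonal_snd, Category.comp_id,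
          show w ≫ pullback.snd π π = _ from pullback.lift_snd _ _ _] at h
        exact h
      refine ⟨sq.lift (z ≫ (yon S).map p₁) (z ≫ (yon S).map p₂) (by
        rw [Category.assoc, ← e₁, e₂, Category.assoc]), ?_, ?_⟩
      · rw [sq.lift_fst_assoc, Category.assoc, e₁]
      · refine hW'.hom_ext ?_ ?_
        · rw [Category.assoc, ← Functor.map_comp, hm₁, sq.lift_fst]
        · rw [Category.assoc, ← Functor.map_comp, hm₂, sq.lift_snd]
  have : IsClosedImmersion m.left := repWith_prop hsep sq'
  have : IsAffine (Over.mk t₀ : Over S).left := inferInstanceAs (IsAffine (Spec (CommRingCat.of k)))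
  have : IsAffine W.left := inferInstanceAs (IsAffine (pullback u v))
  exact isAffine_of_isAffineHom m.left

theorem isQuasiSeparatedSp (hX : IsAlgSpace X) (hsep : IsSeparatedMor π) : IsQuasiSeparatedSp X :=
  Qs.isQuasiSeparatedSp_of_compact hX fun _ _ _ _ _ _ _ hU hV sq => by
    have := isAffine_pullback hX hsep sq
    infer_instance

/-- Open subschemes of a separated space over a point are quasi-separated. -/
theorem quasiSeparatedSpace_chart (hX : IsAlgSpace X) (hsep : IsSeparatedMor π) (G : Over S)
    (θ : (yon S).obj G ⟶ X) [Mono θ] : QuasiSeparatedSpace G.left := by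
  rw [quasiSeparatedSpace_iff_forall_affineOpens]
  intro A B
  let WA : Over S := Over.mk (A.1.ι ≫ G.hom)
  let WB : Over S := Over.mk (B.1.ι ≫ G.hom)
  let a : (yon S).obj WA ⟶ X := (yon S).map (Over.homMk A.1.ι rfl : WA ⟶ G) ≫ θ
  let b : (yon S).obj WB ⟶ X := (yon S).map (Over.homMk B.1.ι rfl : WB ⟶ G) ≫ θ
  obtain ⟨P, p, q, sq⟩ := exists_isPullback_of_representable (hX.representable_from_yon a) b
  have : IsAffine WA.left := A.2
  have : IsAffine WB.left := B.2
  have := isAffine_pullback hX hsep sq
  convert (isCompact_univ (X := P.left)).image (p.left ≫ A.1.ι).continuous using 1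
  ext z
  constructor
  · rintro ⟨hzA, hzB⟩
    obtain ⟨r, hr, -⟩ := (ofPt_eq_ofPt_iff sq ⟨z, hzA⟩ ⟨z, hzB⟩).1
      ((ofPt_openMk A.1 θ ⟨z, hzA⟩).trans (ofPt_openMk B.1 θ ⟨z, hzB⟩).symm)
    exact ⟨r, trivial, by rw [Scheme.Hom.comp_apply, hr]; rfl⟩
  · rintro ⟨r, -, rfl⟩
    refine ⟨(p.left r).2, ?_⟩
    have e : Points.ofPt a (p.left r) = Points.ofPt b (q.left r) := (ofPt_eq_ofPt_iff sq _ _).2 ⟨r, rfl, rfl⟩
    rw [ofPt_openMk A.1 θ (p.left r), ofPt_openMk B.1 θ (q.left r), Points.ofPt_eq_map_ofScheme,
      Points.ofPt_eq_map_ofScheme] at e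
    have e2 : A.1.ι (p.left r) = B.1.ι (q.left r) := (Points.schemeEquiv G).injective
      (show Points.ofScheme G _ = Points.ofScheme G _ from QFL.map_injective_of_mono θ e)
    show A.1.ι (p.left r) ∈ B.1
    rw [e2]
    exact (q.left r).2

/-- Charts of a space locally of finite type over a point are locally of finite type. -/
theorem locallyOfFiniteType_struct (hlft : LocP @LocallyOfFiniteType π) {U : Over S} {a : (yon S).obj U ⟶ X}
    (ha : RepWith @Etale a) : LocallyOfFiniteType (struct π a).left :=
  hlft a (𝟙 _) (struct π a) ha (AlgSp.repWith_id _ _) (by rw [Category.comp_id, yon_struct])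

end Groth.L21.CurveScheme
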